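import Cfsg.Agent.Lib.ThOut.AutData
import Cfsg.Agent.Lib.ThP.DSimple.Main
import Cfsg.Agent.Lib.OutTrivial.Basic

/-!
Every automorphism of `P = ³D₄(2):3` is inner: it can be made to fix an element `x` of order 13 and the
element `z` of order 12 normalising `⟨x⟩`; the image of a third generator centralising `z²` is then decided
by three relations.
-/

set_option autoImplicit false
set_option maxRecDepth 100000

namespace Cfsg.Agent.Lib.ThOut

open Cfsg.Agent.Lib.CosetEnum Cfsg.Agent.Lib.ThP

theorem centX_tabOK : centX.tabOK = true := by decide +kernel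

theorem centX_chainOK : centX.chainOK = true := by decide +kernel

theorem centX_searchOK : centX.searchOK = true := by decide +kernel

theorem centZ_tabOK : centZ.tabOK = true := by decide +kernel

theorem centZ_chainOK : centZ.chainOK = true := by decide +kernel

theorem centZ_searchOK : centZ.searchOK = true := by decide +kernel

/-- The relations that decide the image of `w`. -/
noncomputable def refuted (v : List ℕ) : Bool :=
  !(wordEq (List.replicate 3 v).flatten []) || !(wordEq (List.replicate 28 (v ++ xWord)).flatten []) ||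
    !(wordEq (List.replicate 3 (v ++ zWord)).flatten [])

/-- The words in the three generators and their inverses. -/
def subst6 (l : List ℕ) : List ℕ :=
  l.flatMap fun i => [xWord, invW xWord, zWord, invW zWord, wWord, invW wWord].getD i []
where
  /-- The inverse word. -/
  invW (w : List ℕ) : List ℕ := (w.map fun g => if g % 2 = 0 then g + 1 else g - 1).reverse

/-- All the finite checks. -/
noncomputable def autCheck : Bool :=
  okWord xWord && okWord zWord && okWord wWord &&
  wordEq (List.replicate 13 xWord).flatten [] && !(wordEq xWord []) &&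
  decide (centX.w = xWord) && decide (centZ.w = zWord ++ zWord) &&
  wordEq (xWord ++ zWord) (zWord ++ (xWord ++ xWord)) &&
  wordEq (wWord ++ (zWord ++ zWord)) ((zWord ++ zWord) ++ wWord) &&
  wordEq (List.replicate 3 wWord).flatten [] &&
  wordEq (List.replicate 28 (wWord ++ xWord)).flatten [] &&
  wordEq (List.replicate 3 (wWord ++ zWord)).flatten [] &&
  centX.list.all (fun v => (List.range 13).any fun m =>
    wordEq ((List.replicate m xWord).flatten ++ (v ++ zWord)) (zWord ++ (List.replicate m xWord).flatten)) &&
  centZ.list.all (fun v => wordEq v wWord || refuted v) &&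
  exprs.all (fun l => l.all fun i => Nat.blt i 6) && Nat.beq exprs.length 7 &&
  allBelow 7 (fun j => wordEq (subst6 (exprs.getD j [])) [Nat.mul 2 j])

theorem autCheck_ok : autCheck = true := by decide +kernel

theorem okWord_invW {w : List ℕ} (h : okWord w = true) : okWord (subst6.invW w) = true := by
  rw [okWord_iff] at h ⊢
  intro g hg
  simp only [subst6.invW, List.mem_reverse, List.mem_map] at hg
  obtain ⟨a, ha, rfl⟩ := hg
  have := h a ha
  split <;> omega

theorem val_invW {w : List ℕ} (h : okWord w = true) : val (subst6.invW w) = (val w)⁻¹ := by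
  induction w with
  | nil => simp [subst6.invW, val]
  | cons g l ih =>
    simp only [okWord, List.all_cons, Bool.and_eq_true, Nat.blt_eq] at h
    have hl := ih h.2
    simp only [subst6.invW, List.map_cons, List.reverse_cons] at hl ⊢
    rw [val_append, hl, show g :: l = [g] ++ l from rfl, val_append, mul_inv_rev]
    congr 1
    rw [DSimple.val_singleton, DSimple.val_singleton, DSimple.el_inv g h.1]

/-- Every injective endomorphism of `P` is conjugation by an element. -/
theorem aut_P (β : P →* P) (hβ : Function.Injective β) : ∃ q : P, ∀ p, β p = q * p * q⁻¹ := by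
  have hc := autCheck_ok
  simp only [autCheck, Bool.and_eq_true, List.all_eq_true, List.any_eq_true, decide_eq_true_eq,
    Nat.beq_eq, allBelow_iff, Bool.not_eq_true', List.mem_range] at hc
  obtain ⟨⟨⟨⟨⟨⟨⟨⟨⟨⟨⟨⟨⟨⟨⟨⟨okX, okZ⟩, okW⟩, hx13⟩, hx1⟩, hcX⟩, hcZ⟩, hxz⟩, hwz⟩, hw3⟩,
    hwx⟩, hwzr⟩, hfixZ⟩, hsettle⟩, hexlt⟩, -⟩, hex⟩ := hc
  have okX13 : okWord (List.replicate 13 xWord).flatten = true := by decide +kernel
  set X := val xWord with hX
  set Z := val zWord with hZ
  set W := val wWord with hW
  have hX13 : X ^ 13 = 1 := by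
    rw [hX, ← val_replicate, ← val_nil]; exact val_eq_of_wordEq okX13 rfl hx13
  haveI : Fact (Nat.Prime 13) := ⟨by norm_num⟩
  have hord : orderOf X = 13 := orderOf_eq_prime hX13 fun h => by
    rw [wordEq_of_val okX rfl (h.trans val_nil.symm)] at hx1
    exact Bool.noConfusion hx1
  have hXZ : X * Z = Z * (X * X) := by
    have := val_eq_of_wordEq (okWord_append okX okZ) (okWord_append okZ (okWord_append okX okX)) hxz
    rwa [val_append, val_append, val_append] at this
  have hn : Z⁻¹ * X * (Z⁻¹)⁻¹ = X ^ 2 := by
    rw [inv_inv, mul_assoc, hXZ, inv_mul_cancel_left, pow_two]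
  have h13 : ¬ 13 ^ 2 ∣ Nat.card P := by rw [card_P]; decide
  obtain ⟨g, hg⟩ := OutTrivial.isConj_of_order hord h13 Z⁻¹ 2 hn (by decide)
    (x := β X) ((orderOf_injective β hβ X).trans hord)
  let β₁ : P →* P := (MulAut.conj g⁻¹).toMonoidHom.comp β
  have hβ₁ : ∀ p, β₁ p = g⁻¹ * β p * g := fun p => by simp [β₁]
  have hX₁ : β₁ X = X := by rw [hβ₁, ← hg]; group
  obtain ⟨v, hv, hvZ⟩ : ∃ v ∈ centX.list, β₁ Z * Z⁻¹ = val v := by
    refine CentCert.sound centX_tabOK centX_chainOK centX_searchOK ?_
    rw [hcX, ← hX]
    have h := congrArg β₁ hXZ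
    simp only [map_mul, hX₁] at h
    have h2 : Z⁻¹ * X = X * X * Z⁻¹ := by
      rw [eq_mul_inv_iff_mul_eq, mul_assoc, hXZ, inv_mul_cancel_left]
    rw [mul_assoc, h2, ← mul_assoc, ← mul_assoc, ← mul_assoc, mul_assoc (β₁ Z) X X, ← h,
      mul_assoc]
  have okv : okWord v = true :=
    (by decide +kernel : ∀ v ∈ centX.list, okWord v = true) v hv
  obtain ⟨m, hm, hmz⟩ := hfixZ v hv
  have okm : okWord (List.replicate m xWord).flatten = true :=
    (by decide +kernel : ∀ m < 13, okWord (List.replicate m xWord).flatten = true) m hm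
  have hmZ : X ^ m * β₁ Z = Z * X ^ m := by
    have := val_eq_of_wordEq (okWord_append okm (okWord_append okv okZ)) (okWord_append okZ okm) hmz
    rw [val_append, val_append, val_append, val_replicate, ← hX, ← hZ, ← hvZ] at this
    rwa [inv_mul_cancel_right] at this
  let β₂ : P →* P := (MulAut.conj (X ^ m)).toMonoidHom.comp β₁
  have hβ₂ : ∀ p, β₂ p = X ^ m * β₁ p * (X ^ m)⁻¹ := fun p => rfl
  have hX₂ : β₂ X = X := by rw [hβ₂, hX₁]; group
  have hZ₂ : β₂ Z = Z := by rw [hβ₂, hmZ]; group
  obtain ⟨u, hu, huW⟩ : ∃ u ∈ centZ.list, β₂ W = val u := by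
    refine CentCert.sound centZ_tabOK centZ_chainOK centZ_searchOK ?_
    rw [hcZ, val_append, ← hZ]
    have h : W * (Z * Z) = Z * Z * W := by
      have := val_eq_of_wordEq (okWord_append okW (okWord_append okZ okZ))
        (okWord_append (okWord_append okZ okZ) okW) hwz
      rwa [val_append, val_append, val_append] at this
    have := congrArg β₂ h
    simpa only [map_mul, hZ₂] using this
  have oku : okWord u = true := (by decide +kernel : ∀ u ∈ centZ.list, okWord u = true) u hu
  have okr : ∀ {l : List ℕ} (n : ℕ), okWord l = true → okWord (List.replicate n l).flatten = true := by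
    intro l n hl
    induction n with
    | zero => rfl
    | succ n ih => rw [List.replicate_succ, List.flatten_cons]; exact okWord_append hl ih
  have hWeq : β₂ W = W := by
    rcases Bool.or_eq_true _ _ ▸ hsettle u hu with h | h
    · rw [huW, hW]; exact val_eq_of_wordEq oku okW h
    exfalso
    have key : ∀ (l : List ℕ) (n : ℕ), okWord l = true →
        wordEq (List.replicate n (wWord ++ l)).flatten [] = true → β₂ (val l) = val l →
        wordEq (List.replicate n (u ++ l)).flatten [] = true := by
      intro l n hl hrel hfix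
      refine wordEq_of_val (okr n (okWord_append oku hl)) rfl ?_
      have h1 := val_eq_of_wordEq (okr n (okWord_append okW hl)) rfl hrel
      rw [val_replicate, val_append, val_nil] at h1 ⊢
      have h2 := congrArg β₂ h1
      rwa [map_pow, map_mul, map_one, hfix, ← hW, huW] at h2
    have k1 := key [] 3 rfl (by rw [List.append_nil]; exact hw3) (map_one β₂)
    have k2 := key xWord 28 okX hwx hX₂
    have k3 := key zWord 3 okZ hwzr hZ₂
    rw [List.append_nil] at k1
    simp only [refuted, k1, k2, k3, Bool.not_true, Bool.or_self] at h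
    exact Bool.noConfusion h
  have hall : β₂ = MonoidHom.id P := by
    refine MonoidHom.eq_of_eqOn_dense DSimple.gens_top ?_
    have hj : ∀ j < 7, β₂ (DSimple.el (2 * j)) = DSimple.el (2 * j) := by
      intro j hj
      have ok6 : ∀ i < 6, okWord ([xWord, subst6.invW xWord, zWord, subst6.invW zWord, wWord,
          subst6.invW wWord].getD i []) = true ∧
          β₂ (val ([xWord, subst6.invW xWord, zWord, subst6.invW zWord, wWord,
          subst6.invW wWord].getD i [])) = val ([xWord, subst6.invW xWord, zWord, subst6.invW zWord,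
          wWord, subst6.invW wWord].getD i []) := by
        intro i hi
        match i, hi with
        | 0, _ => exact ⟨okX, hX₂⟩
        | 1, _ => exact ⟨okWord_invW okX, by simp [val_invW okX, ← hX, hX₂]⟩
        | 2, _ => exact ⟨okZ, hZ₂⟩
        | 3, _ => exact ⟨okWord_invW okZ, by simp [val_invW okZ, ← hZ, hZ₂]⟩
        | 4, _ => exact ⟨okW, hWeq⟩
        | 5, _ => exact ⟨okWord_invW okW, by simp [val_invW okW, ← hW, hWeq]⟩
      have hsub : ∀ l : List ℕ, (∀ i ∈ l, i < 6) →
          okWord (subst6 l) = true ∧ β₂ (val (subst6 l)) = val (subst6 l) := by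
        intro l
        induction l with
        | nil => intro _; exact ⟨rfl, map_one β₂⟩
        | cons i l ih =>
          intro hl
          obtain ⟨a1, a2⟩ := ok6 i (hl i List.mem_cons_self)
          obtain ⟨b1, b2⟩ := ih fun x hx => hl x (List.mem_cons_of_mem _ hx)
          simp only [subst6, List.flatMap_cons] at b1 b2 ⊢
          exact ⟨okWord_append a1 b1, by rw [val_append, map_mul, a2, b2]⟩
      obtain ⟨s1, s2⟩ := hsub (exprs.getD j []) (by
        intro i hi
        by_cases hje : j < exprs.length
        · have := hexlt _ (List.getD_eq_getElem exprs [] hje ▸ List.getElem_mem hje) i hi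
          simpa using this
        · rw [List.getD_eq_default _ _ (not_lt.1 hje)] at hi
          simp at hi)
      have he := val_eq_of_wordEq (v := [2 * j]) s1 (by rw [okWord_iff]; simp; omega) (hex j hj)
      rw [he, DSimple.val_singleton] at s2
      exact s2
    intro p hp
    simp only [Set.mem_insert_iff, Set.mem_singleton_iff] at hp
    rcases hp with rfl | rfl | rfl | rfl | rfl | rfl | rfl
    · exact hj 0 (by omega)
    · exact hj 1 (by omega)
    · exact hj 2 (by omega)
    · exact hj 3 (by omega)
    · exact hj 4 (by omega)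
    · exact hj 5 (by omega)
    · exact hj 6 (by omega)
  refine ⟨g * (X ^ m)⁻¹, fun p => ?_⟩
  have hp := DFunLike.congr_fun hall p
  rw [hβ₂, hβ₁] at hp
  change _ = p at hp
  calc β p = g * (X ^ m)⁻¹ * (X ^ m * (g⁻¹ * β p * g) * (X ^ m)⁻¹) * (g * (X ^ m)⁻¹)⁻¹ := by group
    _ = _ := by rw [hp]

end Cfsg.Agent.Lib.ThOut
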