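import Cfsg.Agent.Lib.ThP.Order
import Cfsg.Agent.Lib.CosetEnum.BasePts

/-!
Centralisers in `P` (819 points) from stabiliser chains whose bases run along the cycle of the point 0
under the element: an element commuting with `w` is decided by the image of that one point.
-/

set_option autoImplicit false
set_option maxRecDepth 20000

namespace Cfsg.Agent.Lib.ThOut

open Cfsg.Agent.Lib.CosetEnum Cfsg.Agent.Lib.ThP

/-- Words in the letters of `P`. -/
def okWord (u : List ℕ) : Bool := u.all fun g => Nat.blt g 14

theorem okWord_iff {u : List ℕ} : okWord u = true ↔ ∀ g ∈ u, g < 14 := by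
  simp [okWord]

theorem okWord_append {u v : List ℕ} (hu : okWord u = true) (hv : okWord v = true) :
    okWord (u ++ v) = true := by
  rw [okWord, List.all_append, Bool.and_eq_true]; exact ⟨hu, hv⟩

theorem val_append (u v : List ℕ) : val (u ++ v) = val u * val v := by simp [val]

theorem val_nil : val [] = 1 := rfl

theorem val_replicate (u : List ℕ) (n : ℕ) : val (List.replicate n u).flatten = val u ^ n := by
  induction n with
  | zero => simp [val]
  | succ n ih => rw [List.replicate_succ, List.flatten_cons, val_append, ih, pow_succ']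

/-- The image of a point. -/
noncomputable def imgPt (q : P) (x : ℕ) : ℕ := if h : x < 819 then ((act q)⁻¹ ⟨x, h⟩).1 else 0

theorem imgPt_lt (q : P) (x : ℕ) : imgPt q x < 819 := by
  unfold imgPt; split
  · exact Fin.is_lt _
  · omega

theorem imgPt_word (w : List ℕ) (hw : okWord w = true) {x : ℕ} (hx : x < 819) :
    imgPt (val w) x = scan 14 table w x := by
  rw [imgPt, dif_pos hx]
  exact act_word w (okWord_iff.1 hw) ⟨x, hx⟩

theorem imgPt_mul (p q : P) {x : ℕ} (hx : x < 819) : imgPt (p * q) x = imgPt q (imgPt p x) := by
  simp [imgPt, dif_pos hx]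

theorem wordEq_of_val {u v : List ℕ} (hu : okWord u = true) (hv : okWord v = true)
    (h : val u = val v) : wordEq u v = true := by
  rw [wordEq, List.all_eq_true]
  intro b hb
  have hb' : b < 819 := (by decide +kernel : ∀ b ∈ Slp.base, b < 819) b hb
  rw [Nat.beq_eq, ← imgPt_word u hu hb', ← imgPt_word v hv hb', h]

theorem val_eq_of_wordEq {u v : List ℕ} (hu : okWord u = true) (hv : okWord v = true)
    (h : wordEq u v = true) : val u = val v :=
  wordEq_sound u v (okWord_iff.1 hu) (okWord_iff.1 hv) h

/-- A certificate listing the centraliser of an element. -/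
structure CentCert where
  w : List ℕ
  gens : List (List ℕ)
  P : PTree
  levels : List OrbLevel
  list : List (List ℕ)

/-- The bases run along a cycle. -/
noncomputable def follows (w : List ℕ) : List OrbLevel → Bool
  | [] => true
  | [_] => true
  | l :: m :: ls => Nat.beq (scan 14 table w l.base) m.base && follows w (m :: ls)

/-- The images forced by the first one. -/
noncomputable def cyc (w : List ℕ) : List OrbLevel → ℕ → List ℕ
  | [], _ => []
  | _ :: ls, j => j :: force (scan 14 table w j) (cyc w ls)

/-- Equality of lists of numbers. -/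
noncomputable def eqList : List ℕ → List ℕ → Bool
  | [], [] => true
  | a :: as, b :: bs => Nat.beq a b && eqList as bs
  | _, _ => false

theorem eqList_eq : ∀ {a b : List ℕ}, eqList a b = true → a = b
  | [], [], _ => rfl
  | a :: as, b :: bs, h => by
    simp only [eqList, Bool.and_eq_true, Nat.beq_eq] at h
    rw [h.1, eqList_eq h.2]
  | [], _ :: _, h => by simp [eqList] at h
  | _ :: _, [], h => by simp [eqList] at h

namespace CentCert

variable (C : CentCert)

/-- The tables are those of the words. -/
noncomputable def tabOK : Bool :=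
  okWord C.w && C.gens.all okWord && C.list.all okWord &&
  allBelow C.gens.length fun k => allBelow 819 fun i =>
    Nat.beq (scan 14 table (C.gens.getD k []) i) (get32 C.P (Nat.add (Nat.mul k 819) i))

/-- The chain has the order of `P` and follows the cycle. -/
noncomputable def chainOK : Bool :=
  levelsOK C.gens.length 819 C.P C.levels [] && Nat.beq (chainSize C.levels) 634023936 &&
  follows C.w C.levels

/-- Every commuting element is listed. -/
noncomputable def searchOK : Bool :=
  allBelow 819 fun j =>
    force (scan 14 table [] j) fun j =>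
    siftFail 819 C.P C.levels (cyc C.w C.levels j) ||
    C.list.any fun w => eqList (cyc C.w C.levels j) (C.levels.map fun l => scan 14 table w l.base)

variable {C}

theorem cyc_spec (hw : okWord C.w = true) {q : ThP.P} (hq : q * val C.w = val C.w * q) :
    ∀ (ls : List OrbLevel) (l : OrbLevel), (∀ m ∈ l :: ls, m.base < 819) →
      follows C.w (l :: ls) = true →
      (l :: ls).map (fun m => imgPt q m.base) = cyc C.w (l :: ls) (imgPt q l.base) := by
  intro ls
  induction ls with
  | nil => intro l _ _; simp [cyc]
  | cons m ls ih =>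
    intro l hlt hb
    simp only [follows, Bool.and_eq_true, Nat.beq_eq] at hb
    rw [List.map_cons, ih m (fun x hx => hlt x (List.mem_cons_of_mem _ hx)) hb.2]
    conv_rhs => rw [cyc, force_eq]
    have hl := hlt l List.mem_cons_self
    have hm : imgPt (val C.w) l.base = m.base := by rw [imgPt_word _ hw hl]; exact hb.1
    rw [← imgPt_word _ hw (imgPt_lt q _), ← imgPt_mul _ _ hl, hq, imgPt_mul _ _ hl, hm]

theorem sound (ht : C.tabOK = true) (hc : C.chainOK = true) (hs : C.searchOK = true)
    {q : ThP.P} (hq : q * val C.w = val C.w * q) : ∃ w ∈ C.list, q = val w := by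
  simp only [tabOK, Bool.and_eq_true, List.all_eq_true, allBelow_iff, Nat.beq_eq] at ht
  obtain ⟨⟨⟨hw, hg⟩, hl⟩, hP⟩ := ht
  simp only [chainOK, Bool.and_eq_true, Nat.beq_eq] at hc
  obtain ⟨⟨hlev, hsize⟩, hcyc⟩ := hc
  have hP' : ∀ k < C.gens.length, ∃ x : ThP.P, ∀ i : Fin 819,
      ((act x)⁻¹ i).1 = get32 C.P (k * 819 + i.1) := by
    intro k hk
    have hok := hg _ (List.getD_eq_getElem C.gens [] hk ▸ List.getElem_mem hk)
    exact ⟨_, fun i => by rw [act_word _ (okWord_iff.1 hok)]; exact hP k hk i.1 i.2⟩
  have hfix : Nat.card (fixList (N := 819) act []) ≤ chainSize C.levels := by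
    rw [hsize, ← card_P]
    exact (Nat.card_le_card_of_injective (fun σ : fixList act [] => (⟨σ.1, σ.2.1⟩ : act.range))
      fun _ _ huv => Subtype.ext (congrArg (fun z : act.range => (z.1 : Equiv.Perm (Fin 819))) huv)).trans
      (Nat.card_le_card_of_surjective _ act.rangeRestrict_surjective)
  have htight := tight_of_levels act hP' C.levels [] hlev hfix
  have hlt := levels_base hlev
  rcases hls : C.levels with _ | ⟨l, ls⟩
  · rw [hls] at hsize
    simp [chainSize] at hsize
  rw [hls] at hcyc hlev htight hlt
  have heq := cyc_spec hw hq ls l hlt hcyc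
  have hmem : (act q)⁻¹ ∈ fixList act [] := ⟨⟨q⁻¹, map_inv _ _⟩, by simp⟩
  have hnat : (l :: ls).map (fun m => natApply (act q)⁻¹ m.base) =
      (l :: ls).map fun m => imgPt q m.base := by
    refine List.map_congr_left fun m hm => ?_
    simp [natApply, imgPt, hlt m hm]
  have h := allBelow_iff.1 hs _ (imgPt_lt q l.base)
  rw [force_eq, show scan 14 table [] (imgPt q l.base) = imgPt q l.base from rfl, hls, ← heq,
    Bool.or_eq_true, List.any_eq_true] at h
  rcases h with h | ⟨w, hwl, h⟩
  · exact (siftFail_sound act hP' _ _ htight hlev _ hmem (by rw [hnat]; exact h)).elim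
  · refine ⟨w, hwl, mul_inv_eq_one.1 (act_injective ?_)⟩
    rw [map_one, ← inv_eq_one]
    refine Tight.eq_one act htight _ ⟨⟨_, map_inv _ _⟩, by simp⟩ fun m hm b hb => ?_
    have hpt : imgPt q m.base = scan 14 table w m.base :=
      List.map_inj_left.1 (eqList_eq h) m hm
    rw [map_mul, map_inv, mul_inv_rev, inv_inv, Equiv.Perm.mul_apply]
    have hh : (act q)⁻¹ b = (act (val w))⁻¹ b := by
      apply Fin.ext
      rw [act_word _ (okWord_iff.1 (hl w hwl)), hb, ← hpt, imgPt,
        dif_pos (hlt m hm)]
      exact congrArg (fun i => ((act q)⁻¹ i).1) (Fin.ext hb)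
    rw [hh]
    simp

end CentCert

end Cfsg.Agent.Lib.ThOut
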