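import Cfsg.Agent.Lib.ThOut.Ten

/-! The centraliser of an element of order 7 of `P` fixing 21 points lies in `P`. -/

set_option autoImplicit false
set_option maxRecDepth 20000

namespace Cfsg.Agent.Lib.ThOut

open Cfsg.Agent.Lib.CosetEnum Cfsg.Agent.Lib.ThP Cfsg.Agent.Lib.ExactCover

theorem nfix_one : nfix (1 : P) = 819 := by
  rw [← val_nil, nfix_word _ rfl]
  decide +kernel

theorem ClassA.ne_one {x : P} (hx : ClassA x) : x ≠ 1 := fun h => by
  rw [h, ClassA, nfix_one] at hx; omega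

theorem ClassA.order {x : P} (hx : ClassA x) : orderOf x = 7 :=
  haveI : Fact (Nat.Prime 7) := ⟨by norm_num⟩
  orderOf_eq_prime hx.1 hx.ne_one

theorem genW_mem {gens : List (List ℕ)} (hg : ∀ g ∈ gens, okWord g = true) (l : List (ℕ × Bool)) :
    val (ThDce.genW gens l) ∈ Subgroup.closure {x : P | ∃ g ∈ gens, val g = x} :=
  ThDce.Side.genW_spec (S := ThDce.pSide) hg l

theorem ClassA.conj {x : P} (hx : ClassA x) (q : P) : ClassA (q * x * q⁻¹) :=
  ⟨by rw [conj_pow, hx.1]; group, by rw [nfix_conj]; exact hx.2⟩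

theorem fWord_mem (hg : ∀ g ∈ gensAt 5, okWord g = true) : val fWord ∈ stabAt 5 := genW_mem hg l5

theorem dI_mod : ∀ j : Fin 11, j ≠ 0 → j ≠ 5 → j ≠ 10 → 0 < dI j ∧ ¬ (634023936 / dI j) % 7 = 0 := by
  decide +kernel

attribute [local irreducible] gI fWord

variable (hinj : Function.Injective ThP.toTh) (hidx : ThP.toTh.range.index = 143127000)

include hinj hidx

/-- Elements of order 7 at the fifth node do not fix 21 points. -/
theorem not_classA_five {σ : P} (hσ : σ ∈ Count.full toTh (gI 5)) (hA : ClassA σ) : False := by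
  haveI := finite_P
  rw [← full_eq hinj hidx (i := 5) (k := 4) rfl] at hσ
  have h := fiveOK_true
  simp only [fiveOK, Bool.and_eq_true, List.all_eq_true, List.any_eq_true, allBelow_iff,
    List.mem_range, Bool.not_eq_true'] at h
  obtain ⟨⟨⟨⟨⟨hg, hok⟩, h7⟩, h1⟩, hfix⟩, hn⟩ := h
  have hf7 : val fWord ^ 7 = 1 := by
    rw [← val_replicate, ← val_nil]; exact val_eq_of_wordEq (okWord_replicate hok 7) rfl h7
  have hord : Nat.card (Subgroup.closure {val fWord}) = 7 := by
    haveI : Fact (Nat.Prime 7) := ⟨by norm_num⟩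
    rw [← Subgroup.zpowers_eq_closure, Nat.card_zpowers]
    refine orderOf_eq_prime hf7 fun e => ?_
    rw [wordEq_of_val hok rfl (e.trans val_nil.symm)] at h1
    exact Bool.noConfusion h1
  have hconj : ∀ s ∈ stabAt 5, ∀ k ∈ Subgroup.closure {val fWord},
      s * k * s⁻¹ ∈ Subgroup.closure {val fWord} := by
    intro s hs k hk
    refine OutGroup.conj_mem_closure ?_ hs hk
    rintro _ ⟨g, hgm, rfl⟩ _ rfl
    obtain ⟨hgi, i, -, hi⟩ := hn g hgm
    have := val_eq_of_wordEq (okWord_append (okWord_append (hg g hgm) hok) hgi)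
      (okWord_replicate hok i) hi
    rw [val_append, val_append, ThDce.val_invWord _ (hg g hgm), val_replicate] at this
    rw [this]
    exact pow_mem (Subgroup.subset_closure (Set.mem_singleton _)) i
  have hle : Subgroup.closure {val fWord} ≤ stabAt 5 := by
    rw [Subgroup.closure_le]
    rintro _ rfl
    exact fWord_mem hg
  have hcard : Nat.card (stabAt 5) = 126 := by
    have h5 : dI 5 * Nat.card (stabAt 5) = 634023936 :=
      (congrArg (fun H : Subgroup P => dI 5 * Nat.card H)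
        (full_eq hinj hidx (i := 5) (k := 4) rfl)).trans (card_full hinj hidx 5)
    rw [show dI 5 = 5031936 from rfl] at h5
    omega
  have hmem := OutGroup.mem_of_coprime hle hconj hσ hA.1 (m := 18) (by rw [hcard, hord]) (by norm_num)
  rw [← Subgroup.zpowers_eq_closure] at hmem
  obtain ⟨n, hn⟩ := (isOfFinOrder_of_finite (val fWord)).mem_powers_iff_mem_zpowers.2 hmem
  have h' := hfix (n % 7) (Nat.mod_lt _ (by omega))
  have e : σ = val fWord ^ (n % 7) := by rw [← pow_eq_pow_mod n hf7]; exact hn.symm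
  rw [← Bool.not_eq_true, Nat.beq_eq, ← nfix_word _ (okWord_replicate hok _), val_replicate, ← e] at h'
  exact h' hA.2

/-- At the tenth node the images of the elements fixing 21 points fix none. -/
theorem classA_ten {σ : P} (hσ : σ ∈ Count.full toTh (gI 10)) (hA : ClassA σ) :
    ∃ e : P, conjTen σ = toTh e ∧ nfix e ≠ 21 := by
  haveI := finite_P
  rw [← full_eq hinj hidx (i := 10) (k := 9) rfl] at hσ
  have h := eOK_true
  simp only [eOK, Bool.and_eq_true] at h
  obtain ⟨⟨⟨⟨⟨⟨⟨⟨⟨⟨⟨⟨⟨⟨-, oka⟩, okb⟩, -⟩, -⟩, -⟩, -⟩, -⟩, ha⟩, hb⟩, -⟩, -⟩, -⟩, -⟩, -⟩ := h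
  let E1 := Subgroup.closure ({val (ew1 1 0), val (ew1 0 1)} : Set P)
  have hmap : E1 = subE.map (MulAut.conj (val p1)).toMonoidHom := by
    rw [subE, MonoidHom.map_closure, Set.image_pair]
    simp [E1, val_ew1]
  have hcard1 : Nat.card E1 = 49 := by
    rw [hmap, ← Nat.card_congr (subE.equivMapOfInjective _ (MulAut.conj (val p1)).injective).toEquiv,
      subE_card]
  have hle : E1 ≤ stabAt 10 := by
    rw [Subgroup.closure_le]
    rintro _ (rfl | rfl)
    · rw [val_eq_of_wordEq (okWord_ew1 1 0) oka ha]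
      exact genW_mem gensTen_ok la
    · rw [val_eq_of_wordEq (okWord_ew1 0 1) okb hb]
      exact genW_mem gensTen_ok lb
  have hconj : ∀ s ∈ stabAt 10, ∀ k ∈ E1, s * k * s⁻¹ ∈ E1 := by
    intro s hs k hk
    refine OutGroup.conj_mem_closure ?_ hs hk
    rintro _ ⟨g, hgm, rfl⟩ a ha'
    have hn := normTenOK_true
    simp only [normTenOK, Bool.and_eq_true, List.all_eq_true, List.any_eq_true,
      List.forall_mem_cons, List.mem_range] at hn
    obtain ⟨hgi, h10, h01, -⟩ := hn g hgm
    have key : ∀ e1 e2 : ℕ, (∃ x, x < 7 ∧ ∃ y, y < 7 ∧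
        wordEq (g ++ ew1 e1 e2 ++ invWord g) (ew1 x y) = true) →
        val g * val (ew1 e1 e2) * (val g)⁻¹ ∈ E1 := by
      rintro e1 e2 ⟨x, -, y, -, he⟩
      have := val_eq_of_wordEq (okWord_append (okWord_append (gensTen_ok g hgm) (okWord_ew1 e1 e2)) hgi)
        (okWord_ew1 x y) he
      rw [val_append, val_append, ThDce.val_invWord _ (gensTen_ok g hgm)] at this
      rw [this, hmap, val_ew1]
      exact Subgroup.mem_map_of_mem _ (pow_mem_subE x y)
    rcases ha' with rfl | rfl
    · exact key 1 0 h10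
    · exact key 0 1 h01
  have hcard : Nat.card (stabAt 10) = 3528 := by
    have h10 : dI 10 * Nat.card (stabAt 10) = 634023936 :=
      (congrArg (fun H : Subgroup P => dI 10 * Nat.card H)
        (full_eq hinj hidx (i := 10) (k := 9) rfl)).trans (card_full hinj hidx 10)
    rw [show dI 10 = 179712 from rfl] at h10
    omega
  have hmem := OutGroup.mem_of_coprime hle hconj hσ hA.1 (m := 72) (by rw [hcard, hcard1]) (by norm_num)
  rw [hmap] at hmem
  obtain ⟨e, he, rfl⟩ := hmem
  obtain ⟨i, hi, j, hj, rfl⟩ := mem_subE he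
  refine ⟨val p2 * (sE ^ j * hE ^ six i) * (val p2)⁻¹, conjTen_E i j, ?_⟩
  have hne : ¬(i = 0 ∧ j = 0) := by
    rintro ⟨rfl, rfl⟩
    exact hA.ne_one (by simp)
  rw [nfix_conj]
  refine ((class_facts hi hj hne).2.1 ?_)
  rw [← nfix_conj (sE ^ i * hE ^ j) (val p1)]
  exact hA.2

/-- The centraliser of an element fixing 21 points lies in `P`. -/
theorem cent_classA {x : P} (hx : ClassA x) {c : Th} (hc : c * toTh x = toTh x * c) :
    c ∈ toTh.range := by
  haveI := finite_P
  haveI : Finite Th := ThDce.Data.cert.finite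
  obtain ⟨i, p, r, hr⟩ := (setup hinj hidx).cover c
  have hce : c = toTh r * (gI i * toTh p) := by rw [hr, inv_mul_cancel_right]
  have hσA : ClassA (p * x * p⁻¹) := hx.conj p
  have him : gI i * toTh (p * x * p⁻¹) * (gI i)⁻¹ = toTh (r⁻¹ * x * r) := by
    have h : toTh r * (gI i * toTh p) * toTh x = toTh x * (toTh r * (gI i * toTh p)) := by
      rw [← hce]; exact hc
    rw [map_mul, map_mul, map_inv, map_mul, map_mul, map_inv]
    calc _ = (toTh r)⁻¹ * (toTh r * (gI i * toTh p) * toTh x) * ((toTh p)⁻¹ * (gI i)⁻¹) := by group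
      _ = _ := by rw [h]; group
  have hσ : p * x * p⁻¹ ∈ Count.full toTh (gI i) := by rw [Count.mem_full, him]; exact ⟨_, rfl⟩
  have hdvd : 7 ∣ Nat.card (Count.full toTh (gI i)) := by
    have h7 := Subgroup.orderOf_dvd_natCard _ hσ
    rwa [hσA.order] at h7
  obtain ⟨k, hk⟩ := hdvd
  have hcard := card_full hinj hidx i
  rw [hk] at hcard
  by_cases h0 : i = 0
  · rw [hce, h0, gI_zero, one_mul]; exact mul_mem ⟨r, rfl⟩ ⟨p, rfl⟩
  by_cases h5 : i = 5
  · subst h5; exact (not_classA_five hinj hidx hσ hσA).elim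
  by_cases h10 : i = 10
  · subst h10
    obtain ⟨e, he, hne⟩ := classA_ten hinj hidx hσ hσA
    rw [conjTen_apply, him] at he
    have := (hx.conj r⁻¹).2
    rw [inv_inv, hinj he] at this
    exact absurd this hne
  exfalso
  have key : ∀ j : Fin 11, j ≠ 0 → j ≠ 5 → j ≠ 10 →
      0 < dI j ∧ ¬ (634023936 / dI j) % 7 = 0 := dI_mod
  obtain ⟨hpos, hmod⟩ := key i h0 h5 h10
  rw [← hcard, Nat.mul_div_cancel_left _ hpos, Nat.mul_mod_right] at hmod
  exact hmod rfl

end Cfsg.Agent.Lib.ThOut
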