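import Cfsg.Agent.Lib.ThOut.OutWords

/-! Kernel evaluation of the checks for the outer automorphisms of the Thompson group (CheckE). -/

set_option autoImplicit false
set_option maxRecDepth 100000
set_option Elab.async false

namespace Cfsg.Agent.Lib.ThOut

theorem eOK_true : eOK = true := by decide +kernel

theorem classOK_true : classOK = true := by decide +kernel

theorem normTenOK_true : normTenOK = true := by decide +kernel

theorem fiveOK_true : fiveOK = true := by decide +kernel

theorem pairsOK_true : pairsOK = true := by decide +kernel

end Cfsg.Agent.Lib.ThOut
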