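import Cfsg.Agent.Lib.ThOut.OutWords

/-! Kernel evaluation of the checks for the outer automorphisms of the Thompson group (images). -/

set_option autoImplicit false
set_option maxRecDepth 100000
set_option Elab.async false

namespace Cfsg.Agent.Lib.ThOut

open Cfsg.Agent.Lib.CosetEnum

theorem imgsOK_true : imgsOK = true := by decide +kernel

end Cfsg.Agent.Lib.ThOut
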