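import Cfsg.Agent.Lib.ThOut.OutWords
import Cfsg.Agent.Lib.CosetEnum.Prim

/-! Kernel evaluation of the checks for the outer automorphisms of the Thompson group (multipliers). -/

set_option autoImplicit false
set_option maxRecDepth 100000
set_option Elab.async false

namespace Cfsg.Agent.Lib.ThOut

open Cfsg.Agent.Lib.CosetEnum

theorem mul0 : allFrom 0 8 mulOne = true := by decide +kernel

theorem mul8 : allFrom 8 8 mulOne = true := by decide +kernel

theorem mul16 : allFrom 16 8 mulOne = true := by decide +kernel

theorem mul24 : allFrom 24 8 mulOne = true := by decide +kernel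

theorem mul32 : allFrom 32 8 mulOne = true := by decide +kernel

theorem mul40 : allFrom 40 8 mulOne = true := by decide +kernel

theorem mul48 : allFrom 48 8 mulOne = true := by decide +kernel

theorem mul56 : allFrom 56 8 mulOne = true := by decide +kernel

theorem mul64 : allFrom 64 8 mulOne = true := by decide +kernel

theorem mul72 : allFrom 72 8 mulOne = true := by decide +kernel

theorem mul80 : allFrom 80 8 mulOne = true := by decide +kernel

theorem mul88 : allFrom 88 8 mulOne = true := by decide +kernel

theorem mul96 : allFrom 96 8 mulOne = true := by decide +kernel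

theorem mul104 : allFrom 104 8 mulOne = true := by decide +kernel

theorem mul112 : allFrom 112 8 mulOne = true := by decide +kernel

theorem mulsPart0 : ∀ i, 0 ≤ i → i < 120 → mulOne i = true := by
  intro i h h'
  by_cases h0 : i < 8
  · exact allFrom_iff.1 mul0 i (by omega) (by omega)
  by_cases h8 : i < 16
  · exact allFrom_iff.1 mul8 i (by omega) (by omega)
  by_cases h16 : i < 24
  · exact allFrom_iff.1 mul16 i (by omega) (by omega)
  by_cases h24 : i < 32
  · exact allFrom_iff.1 mul24 i (by omega) (by omega)
  by_cases h32 : i < 40
  · exact allFrom_iff.1 mul32 i (by omega) (by omega)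
  by_cases h40 : i < 48
  · exact allFrom_iff.1 mul40 i (by omega) (by omega)
  by_cases h48 : i < 56
  · exact allFrom_iff.1 mul48 i (by omega) (by omega)
  by_cases h56 : i < 64
  · exact allFrom_iff.1 mul56 i (by omega) (by omega)
  by_cases h64 : i < 72
  · exact allFrom_iff.1 mul64 i (by omega) (by omega)
  by_cases h72 : i < 80
  · exact allFrom_iff.1 mul72 i (by omega) (by omega)
  by_cases h80 : i < 88
  · exact allFrom_iff.1 mul80 i (by omega) (by omega)
  by_cases h88 : i < 96
  · exact allFrom_iff.1 mul88 i (by omega) (by omega)
  by_cases h96 : i < 104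
  · exact allFrom_iff.1 mul96 i (by omega) (by omega)
  by_cases h104 : i < 112
  · exact allFrom_iff.1 mul104 i (by omega) (by omega)
  by_cases h112 : i < 120
  · exact allFrom_iff.1 mul112 i (by omega) (by omega)
  omega

end Cfsg.Agent.Lib.ThOut
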