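import Cfsg.Agent.Lib.ThOut.OutWords
import Cfsg.Agent.Lib.CosetEnum.Prim

/-! Kernel evaluation of the checks for the outer automorphisms of the Thompson group (multipliers). -/

set_option autoImplicit false
set_option maxRecDepth 100000
set_option Elab.async false

namespace Cfsg.Agent.Lib.ThOut

open Cfsg.Agent.Lib.CosetEnum

theorem mul120 : allFrom 120 8 mulOne = true := by decide +kernel

theorem mul128 : allFrom 128 8 mulOne = true := by decide +kernel

theorem mul136 : allFrom 136 8 mulOne = true := by decide +kernel

theorem mul144 : allFrom 144 8 mulOne = true := by decide +kernel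

theorem mul152 : allFrom 152 8 mulOne = true := by decide +kernel

theorem mul160 : allFrom 160 8 mulOne = true := by decide +kernel

theorem mul168 : allFrom 168 8 mulOne = true := by decide +kernel

theorem mul176 : allFrom 176 8 mulOne = true := by decide +kernel

theorem mul184 : allFrom 184 8 mulOne = true := by decide +kernel

theorem mul192 : allFrom 192 8 mulOne = true := by decide +kernel

theorem mul200 : allFrom 200 8 mulOne = true := by decide +kernel

theorem mul208 : allFrom 208 8 mulOne = true := by decide +kernel

theorem mul216 : allFrom 216 8 mulOne = true := by decide +kernel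

theorem mul224 : allFrom 224 8 mulOne = true := by decide +kernel

theorem mul232 : allFrom 232 8 mulOne = true := by decide +kernel

theorem mulsPart1 : ∀ i, 120 ≤ i → i < 240 → mulOne i = true := by
  intro i h h'
  by_cases h120 : i < 128
  · exact allFrom_iff.1 mul120 i (by omega) (by omega)
  by_cases h128 : i < 136
  · exact allFrom_iff.1 mul128 i (by omega) (by omega)
  by_cases h136 : i < 144
  · exact allFrom_iff.1 mul136 i (by omega) (by omega)
  by_cases h144 : i < 152
  · exact allFrom_iff.1 mul144 i (by omega) (by omega)
  by_cases h152 : i < 160
  · exact allFrom_iff.1 mul152 i (by omega) (by omega)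
  by_cases h160 : i < 168
  · exact allFrom_iff.1 mul160 i (by omega) (by omega)
  by_cases h168 : i < 176
  · exact allFrom_iff.1 mul168 i (by omega) (by omega)
  by_cases h176 : i < 184
  · exact allFrom_iff.1 mul176 i (by omega) (by omega)
  by_cases h184 : i < 192
  · exact allFrom_iff.1 mul184 i (by omega) (by omega)
  by_cases h192 : i < 200
  · exact allFrom_iff.1 mul192 i (by omega) (by omega)
  by_cases h200 : i < 208
  · exact allFrom_iff.1 mul200 i (by omega) (by omega)
  by_cases h208 : i < 216
  · exact allFrom_iff.1 mul208 i (by omega) (by omega)
  by_cases h216 : i < 224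
  · exact allFrom_iff.1 mul216 i (by omega) (by omega)
  by_cases h224 : i < 232
  · exact allFrom_iff.1 mul224 i (by omega) (by omega)
  by_cases h232 : i < 240
  · exact allFrom_iff.1 mul232 i (by omega) (by omega)
  omega

end Cfsg.Agent.Lib.ThOut
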