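import Cfsg.Agent.Lib.ThOut.OutWords
import Cfsg.Agent.Lib.CosetEnum.Prim

/-! Kernel evaluation of the checks for the outer automorphisms of the Thompson group (multipliers). -/

set_option autoImplicit false
set_option maxRecDepth 100000
set_option Elab.async false

namespace Cfsg.Agent.Lib.ThOut

open Cfsg.Agent.Lib.CosetEnum

theorem mul240 : allFrom 240 8 mulOne = true := by decide +kernel

theorem mul248 : allFrom 248 8 mulOne = true := by decide +kernel

theorem mul256 : allFrom 256 8 mulOne = true := by decide +kernel

theorem mul264 : allFrom 264 8 mulOne = true := by decide +kernel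

theorem mul272 : allFrom 272 8 mulOne = true := by decide +kernel

theorem mul280 : allFrom 280 8 mulOne = true := by decide +kernel

theorem mul288 : allFrom 288 8 mulOne = true := by decide +kernel

theorem mul296 : allFrom 296 8 mulOne = true := by decide +kernel

theorem mul304 : allFrom 304 8 mulOne = true := by decide +kernel

theorem mul312 : allFrom 312 8 mulOne = true := by decide +kernel

theorem mul320 : allFrom 320 8 mulOne = true := by decide +kernel

theorem mul328 : allFrom 328 8 mulOne = true := by decide +kernel

theorem mul336 : allFrom 336 8 mulOne = true := by decide +kernel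

theorem mul344 : allFrom 344 8 mulOne = true := by decide +kernel

theorem mul352 : allFrom 352 6 mulOne = true := by decide +kernel

theorem mulsPart2 : ∀ i, 240 ≤ i → i < 358 → mulOne i = true := by
  intro i h h'
  by_cases h240 : i < 248
  · exact allFrom_iff.1 mul240 i (by omega) (by omega)
  by_cases h248 : i < 256
  · exact allFrom_iff.1 mul248 i (by omega) (by omega)
  by_cases h256 : i < 264
  · exact allFrom_iff.1 mul256 i (by omega) (by omega)
  by_cases h264 : i < 272
  · exact allFrom_iff.1 mul264 i (by omega) (by omega)
  by_cases h272 : i < 280
  · exact allFrom_iff.1 mul272 i (by omega) (by omega)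
  by_cases h280 : i < 288
  · exact allFrom_iff.1 mul280 i (by omega) (by omega)
  by_cases h288 : i < 296
  · exact allFrom_iff.1 mul288 i (by omega) (by omega)
  by_cases h296 : i < 304
  · exact allFrom_iff.1 mul296 i (by omega) (by omega)
  by_cases h304 : i < 312
  · exact allFrom_iff.1 mul304 i (by omega) (by omega)
  by_cases h312 : i < 320
  · exact allFrom_iff.1 mul312 i (by omega) (by omega)
  by_cases h320 : i < 328
  · exact allFrom_iff.1 mul320 i (by omega) (by omega)
  by_cases h328 : i < 336
  · exact allFrom_iff.1 mul328 i (by omega) (by omega)
  by_cases h336 : i < 344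
  · exact allFrom_iff.1 mul336 i (by omega) (by omega)
  by_cases h344 : i < 352
  · exact allFrom_iff.1 mul344 i (by omega) (by omega)
  by_cases h352 : i < 358
  · exact allFrom_iff.1 mul352 i (by omega) (by omega)
  omega

end Cfsg.Agent.Lib.ThOut
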