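import Cfsg.Agent.Lib.ThOut.OutWords

/-! Kernel evaluation of the checks for the outer automorphisms of the Thompson group (stabilisers). -/

set_option autoImplicit false
set_option maxRecDepth 100000
set_option Elab.async false

namespace Cfsg.Agent.Lib.ThOut

open Cfsg.Agent.Lib.CosetEnum

theorem stabOne0 : stabOne 0 = true := by decide +kernel

theorem stabOne1 : stabOne 1 = true := by decide +kernel

theorem stabOne2 : stabOne 2 = true := by decide +kernel

theorem stabOne3 : stabOne 3 = true := by decide +kernel

theorem stabOne4 : stabOne 4 = true := by decide +kernel

theorem stabOne5 : stabOne 5 = true := by decide +kernel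

theorem stabOne6 : stabOne 6 = true := by decide +kernel

theorem stabOne7 : stabOne 7 = true := by decide +kernel

theorem stabOne8 : stabOne 8 = true := by decide +kernel

theorem stabOne9 : stabOne 9 = true := by decide +kernel

theorem stabOK_true : stabOK = true := by
  rw [stabOK, allBelow_iff]
  intro k hk
  interval_cases k
  · exact stabOne0
  · exact stabOne1
  · exact stabOne2
  · exact stabOne3
  · exact stabOne4
  · exact stabOne5
  · exact stabOne6
  · exact stabOne7
  · exact stabOne8
  · exact stabOne9

end Cfsg.Agent.Lib.ThOut
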