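import Mathlib.GroupTheory.Index
import Mathlib.Algebra.Group.Subgroup.Map
import Mathlib.Data.Set.Card.Arithmetic
import Mathlib.Algebra.Order.BigOperators.Group.Finset
import Mathlib.Algebra.BigOperators.Group.Finset.Basic
import Mathlib.Tactic.Group

/-!
Double cosets `ι P * g i * ι P` covering a finite group whose order equals the sum of the bounds given by
lower bounds on the stabilisers: the bounds are then exact, and subgroups containing the image of `P` have
orders that are sums of them.
-/

set_option autoImplicit false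

namespace Cfsg.Agent.Lib.ThOut.Count

variable {P G : Type*} [Group P] [Group G] (ι : P →* G)

/-- The elements of `P` that conjugation by `g` keeps in the image. -/
def full (g : G) : Subgroup P := (ι.range.comap (MulAut.conj g).toMonoidHom).comap ι

theorem mem_full {g : G} {p : P} : p ∈ full ι g ↔ g * ι p * g⁻¹ ∈ ι.range := Iff.rfl

/-- A double coset. -/
def dc (g : G) : Set G := {x | ∃ p : P, x * (g * ι p)⁻¹ ∈ ι.range}

theorem ncard_dc_le [Finite P] (g : G) : (dc ι g).ncard ≤ Nat.card P * (full ι g).index := by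
  classical
  let f : P × (P ⧸ full ι g) → G := fun z => ι z.1 * g * (ι z.2.out)⁻¹
  have hsub : dc ι g ⊆ Set.range f := by
    rintro x ⟨p, r, hr⟩
    obtain ⟨σ, hσ⟩ := QuotientGroup.mk_out_eq_mul (full ι g) p⁻¹
    obtain ⟨s, hs⟩ : g * ι (σ : P) * g⁻¹ ∈ ι.range := σ.2
    refine ⟨(r * s, QuotientGroup.mk p⁻¹), ?_⟩
    have hx : x = ι r * (g * ι p) := by rw [hr, inv_mul_cancel_right]
    simp only [f, hσ, map_mul, hs, map_inv, mul_inv_rev, inv_inv, hx]
    group
  calc (dc ι g).ncard ≤ (Set.range f).ncard := Set.ncard_le_ncard hsub (Set.finite_range f)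
    _ ≤ Nat.card (P × (P ⧸ full ι g)) := by
        rw [← Nat.card_coe_set_eq]
        exact Nat.card_le_card_of_surjective _ (Set.rangeFactorization_surjective (f := f))
    _ = Nat.card P * (full ι g).index := by rw [Nat.card_prod]; rfl

variable {n : ℕ} (g : Fin n → G) (d : Fin n → ℕ)

/-- The hypotheses of the count. -/
structure Setup : Prop where
  cover : ∀ x, ∃ i, x ∈ dc ι (g i)
  lower : ∀ i, Nat.card P ≤ d i * Nat.card (full ι (g i))
  total : Nat.card G = Nat.card P * ∑ i, d i

variable {ι g d} [Finite P] [Finite G] (S : Setup ι g d)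

include S

theorem index_le (i : Fin n) : (full ι (g i)).index ≤ d i :=
  Nat.le_of_mul_le_mul_right (((full ι (g i)).index_mul_card).trans_le (S.lower i)) Nat.card_pos

theorem ncard_le (T : Finset (Fin n)) (A : Set G) (hA : A ⊆ ⋃ i ∈ T, dc ι (g i)) :
    A.ncard ≤ Nat.card P * ∑ i ∈ T, (full ι (g i)).index := by
  classical
  refine (Set.ncard_le_ncard hA (Set.toFinite _)).trans ((T.set_ncard_biUnion_le _).trans ?_)
  rw [Finset.mul_sum]
  exact Finset.sum_le_sum fun i _ => ncard_dc_le ι (g i)

theorem index_eq (i : Fin n) : (full ι (g i)).index = d i := by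
  have h1 := ncard_le S Finset.univ Set.univ fun x _ => by
    obtain ⟨j, hj⟩ := S.cover x
    exact Set.mem_iUnion₂.2 ⟨j, Finset.mem_univ _, hj⟩
  rw [Set.ncard_univ, S.total] at h1
  have h2 := Nat.le_of_mul_le_mul_left h1 Nat.card_pos
  exact (Finset.sum_eq_sum_iff_of_le fun j _ => index_le S j).1
    (le_antisymm (Finset.sum_le_sum fun j _ => index_le S j) h2) i (Finset.mem_univ _)

theorem card_full (i : Fin n) : d i * Nat.card (full ι (g i)) = Nat.card P := by
  rw [← index_eq S i]; exact (full ι (g i)).index_mul_card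

/-- Subgroups containing the image are unions of double cosets. -/
theorem card_over (H : Subgroup G) (hH : ι.range ≤ H) [DecidablePred fun i => g i ∈ H] :
    Nat.card H = Nat.card P * ∑ i ∈ Finset.univ.filter (fun i => g i ∈ H), d i := by
  classical
  have hiff : ∀ (i : Fin n) (x : G), x ∈ dc ι (g i) → (x ∈ H ↔ g i ∈ H) := by
    rintro i x ⟨p, hp⟩
    have h := hH hp
    have hp' : ι p ∈ H := hH ⟨p, rfl⟩
    constructor
    · intro hx
      have := H.mul_mem (H.mul_mem (H.inv_mem h) hx) (H.inv_mem hp')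
      simpa [mul_assoc] using this
    · intro hg
      have := H.mul_mem h (H.mul_mem hg hp')
      simpa [mul_assoc] using this
  have hT : ∀ T : Finset (Fin n), ∑ i ∈ T, (full ι (g i)).index = ∑ i ∈ T, d i := fun T =>
    Finset.sum_congr rfl fun i _ => index_eq S i
  have h1 := ncard_le S (Finset.univ.filter fun i => g i ∈ H) (H : Set G) fun x hx => by
    obtain ⟨j, hj⟩ := S.cover x
    exact Set.mem_iUnion₂.2 ⟨j, Finset.mem_filter.2 ⟨Finset.mem_univ _, (hiff j x hj).1 hx⟩, hj⟩
  have h2 := ncard_le S (Finset.univ.filter fun i => ¬ g i ∈ H) (H : Set G)ᶜ fun x hx => by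
    obtain ⟨j, hj⟩ := S.cover x
    exact Set.mem_iUnion₂.2
      ⟨j, Finset.mem_filter.2 ⟨Finset.mem_univ _, fun h => hx ((hiff j x hj).2 h)⟩, hj⟩
  have h3 := Set.ncard_add_ncard_compl (H : Set G)
  rw [S.total, ← Finset.sum_filter_add_sum_filter_not Finset.univ (fun i => g i ∈ H),
    Nat.mul_add] at h3
  rw [hT] at h1 h2
  rw [← Nat.card_coe_set_eq] at h1 h3
  change Nat.card (H : Set G) = _
  omega

end Cfsg.Agent.Lib.ThOut.Count
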