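import Cfsg.Agent.Lib.ThDce.Cert

/-!
The equations of a derivation with their multipliers: each is an equality in the Thompson group whose
left factor is an explicit word of `P`.
-/

set_option autoImplicit false

namespace Cfsg.Agent.Lib.ThOut

open Cfsg.Agent.Lib.CosetEnum Cfsg.Agent.Lib.ExactCover

open Cfsg.Agent.Lib.ThDce in
/-- An equation with its multiplier. -/
def RelM (D : ThDce.DData) (F : ThDce.DFact) (m : List ℕ) : Prop :=
  D.rep F.a.1 * ThDce.el F.a.2 = ThDce.el m * (D.rep F.b.1 * ThDce.el F.b.2)

open Cfsg.Agent.Lib.ThDce in
/-- Run moves, collecting the appended letters and the multiplier. -/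
noncomputable def runM (D : DData) (mul : ℕ → List ℕ) (need : ℕ → Bool) (n : ℕ) :
    List Move → ℕ × List ℕ → List ℕ → List ℕ → Option ((ℕ × List ℕ) × List ℕ × List ℕ)
  | [], st, A, acc => some (st, A, acc)
  | .app w :: ms, st, A, acc => runM D mul need n ms (st.1, st.2 ++ w) (A ++ w) acc
  | .use f rev k :: ms, st, A, acc =>
    let F := D.fact f
    let s1 := bif rev then F.b else F.a
    let s2 := bif rev then F.a else F.b
    bif Nat.blt f n && need f && Nat.beq st.1 s1.1 && D.eqAt st.1 (s1.2 ++ k) st.2 then
      runM D mul need n ms (s2.1, s2.2 ++ k) A (acc ++ bif rev then invWord (mul f) else mul f)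
    else none

open Cfsg.Agent.Lib.ThDce in
/-- Check one equation with its multiplier. -/
noncomputable def checkM (D : DData) (mul : ℕ → List ℕ) (need : ℕ → Bool) (i : ℕ) : Bool :=
  let F := D.fact i
  match F.why with
  | .tree => Nat.ble F.a.1 i && Nat.beq F.b.1 (i + 1) && leq (mul i) []
  | .base => Nat.beq F.a.1 0 && Nat.beq F.b.1 0 && pEq F.a.2 (mul i ++ F.b.2)
  | .walk ms r =>
    match runM D mul need i ms F.a [] [] with
    | none => false
    | some q => Nat.beq q.1.1 F.b.1 && D.eqAt q.1.1 q.1.2 F.b.2 && leq q.2.1 (DData.closing r) &&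
        pEq q.2.2 (mul i)

variable {D : ThDce.DData} {mul : ℕ → List ℕ} {need : ℕ → Bool}

open Cfsg.Agent.Lib.ThDce in
theorem runM_sound (hT : D.T.OK) {n : ℕ}
    (hn : ∀ f < n, need f = true → RelM D (D.fact f) (mul f)) (X : G) :
    ∀ (ms : List Move) (st : ℕ × List ℕ) (A acc : List ℕ),
      X * el A = el acc * (D.rep st.1 * el st.2) →
      ∀ q, runM D mul need n ms st A acc = some q →
        X * el q.2.1 = el q.2.2 * (D.rep q.1.1 * el q.1.2) := by
  intro ms
  induction ms with
  | nil => intro st A acc h q hq; simp only [runM, Option.some.injEq] at hq; subst hq; exact h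
  | cons m ms ih =>
    intro st A acc h q hq
    cases m with
    | app w =>
      simp only [runM] at hq
      refine ih _ _ _ ?_ q hq
      rw [el_append, el_append, ← mul_assoc, h]
      simp only [mul_assoc]
    | use f rev k =>
      simp only [runM] at hq
      cases hc : (Nat.blt f n && need f &&
          Nat.beq st.1 (bif rev then (D.fact f).b else (D.fact f).a).1 &&
          D.eqAt st.1 ((bif rev then (D.fact f).b else (D.fact f).a).2 ++ k) st.2) with
      | false => simp [hc] at hq
      | true =>
        simp only [hc, cond_true] at hq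
        simp only [Bool.and_eq_true, Nat.blt_eq, Nat.beq_eq] at hc
        obtain ⟨⟨⟨hf, hneed⟩, h1⟩, h2⟩ := hc
        refine ih _ _ _ ?_ q hq
        have hR := hn f hf hneed
        have hu := DData.eqAt_el hT h2
        rw [← hu, h1] at h
        simp only [RelM] at hR
        cases rev with
        | false =>
          simp only [cond_false] at h ⊢
          rw [h, el_append, el_append, el_append, ← mul_assoc (D.rep _), hR]
          simp only [mul_assoc]
        | true =>
          simp only [cond_true] at h ⊢
          rw [h, el_append, el_append, el_append, ← mul_assoc (D.rep _), el_invWord,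
            ← mul_assoc (D.rep (D.fact f).a.1), hR]
          simp only [mul_assoc, inv_mul_cancel_left]

open Cfsg.Agent.Lib.ThDce in
/-- The checked equations hold with their multipliers. -/
theorem checkM_sound (hT : D.T.OK) {N : ℕ}
    (hc : ∀ i < N, (!need i || checkM D mul need i) = true) :
    ∀ i < N, need i = true → RelM D (D.fact i) (mul i) := by
  intro i
  induction i using Nat.strong_induction_on with
  | _ i ih =>
    intro hi hneed
    have h := hc i hi
    rw [hneed, Bool.not_true, Bool.false_or] at h
    simp only [checkM] at h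
    cases hw : (D.fact i).why with
    | tree =>
      simp only [hw, Bool.and_eq_true, Nat.ble_eq, Nat.beq_eq] at h
      obtain ⟨⟨h1, h2⟩, h3⟩ := h
      rw [RelM, leq_eq h3, el_nil, one_mul, h2, D.rep_succ i h1, inv_mul_cancel_right]
    | base =>
      simp only [hw, Bool.and_eq_true, Nat.beq_eq] at h
      rw [RelM, h.1.1, h.1.2, DData.rep_zero, one_mul, one_mul, pEq_el h.2, el_append]
    | walk ms r =>
      simp only [hw] at h
      cases hr : runM D mul need i ms (D.fact i).a [] [] with
      | none => simp [hr] at h
      | some q =>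
        simp only [hr, Bool.and_eq_true, Nat.beq_eq] at h
        obtain ⟨⟨⟨hb, he⟩, hA⟩, hm⟩ := h
        have := runM_sound hT (fun f hf => ih f hf (hf.trans hi))
          (D.rep (D.fact i).a.1 * el (D.fact i).a.2) ms _ [] []
          (by rw [el_nil, mul_one, one_mul]) q hr
        rw [leq_eq hA, DData.el_closing, mul_one, DData.eqAt_el hT he, hb, pEq_el hm] at this
        exact this

end Cfsg.Agent.Lib.ThOut
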