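import Mathlib.GroupTheory.Sylow
import Mathlib.GroupTheory.Index
import Mathlib.GroupTheory.QuotientGroup.Basic
import Mathlib.GroupTheory.OrderOfElement
import Mathlib.Tactic.Group

/-! Small lemmas on finite groups used for the outer automorphisms of the Thompson group. -/

set_option autoImplicit false

namespace Cfsg.Agent.Lib.ThOut.OutGroup

variable {P : Type*} [Group P] [Finite P]

/-- Conjugation preserving generators of `K` on generators of `S` gives normalisation. -/
theorem conj_mem_closure {gens : Set P} {A : Set P} (h : ∀ g ∈ gens, ∀ a ∈ A, g * a * g⁻¹ ∈ Subgroup.closure A)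
    {x : P} (hx : x ∈ Subgroup.closure gens) {a : P} (ha : a ∈ Subgroup.closure A) :
    x * a * x⁻¹ ∈ Subgroup.closure A := by
  have key : (Subgroup.closure A).map (MulAut.conj x).toMonoidHom = Subgroup.closure A := by
    induction hx using Subgroup.closure_induction with
    | mem g hg =>
      refine Subgroup.eq_of_le_of_card_ge ?_ ?_
      · rw [MonoidHom.map_closure, Subgroup.closure_le]
        rintro _ ⟨b, hb, rfl⟩
        exact h g hg b hb
      · exact (Nat.card_congr ((Subgroup.closure A).equivMapOfInjective _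
          (MulAut.conj g).injective).toEquiv).le
    | one =>
      rw [show (MulAut.conj (1 : P)).toMonoidHom = MonoidHom.id P by ext; simp, Subgroup.map_id]
    | mul y z _ _ hy hz =>
      rw [show (MulAut.conj (y * z)).toMonoidHom =
        (MulAut.conj y).toMonoidHom.comp (MulAut.conj z).toMonoidHom by ext; simp,
        ← Subgroup.map_map, hz, hy]
    | inv y _ hy =>
      conv_lhs => rw [← hy]
      rw [Subgroup.map_map, show (MulAut.conj y⁻¹).toMonoidHom.comp (MulAut.conj y).toMonoidHom =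
        MonoidHom.id P by ext; simp [mul_assoc], Subgroup.map_id]
  exact key ▸ Subgroup.mem_map_of_mem _ ha

/-- An element of order prime to the index of a normalised subgroup lies in it. -/
theorem mem_of_coprime {K S : Subgroup P} (hKS : K ≤ S) (hn : ∀ s ∈ S, ∀ k ∈ K, s * k * s⁻¹ ∈ K)
    {x : P} (hx : x ∈ S) {n m : ℕ} (hxn : x ^ n = 1) (hcard : Nat.card S = Nat.card K * m)
    (hcop : Nat.Coprime n m) : x ∈ K := by
  have : (K.subgroupOf S).Normal := ⟨fun k hk s => hn s.1 s.2 k.1 hk⟩
  have hK : Nat.card (K.subgroupOf S) = Nat.card K :=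
    Nat.card_congr (Subgroup.subgroupOfEquivOfLe hKS).toEquiv
  have hidx : (K.subgroupOf S).index = m := by
    have h := (K.subgroupOf S).card_mul_index
    rw [hK, hcard] at h
    exact Nat.eq_of_mul_eq_mul_left Nat.card_pos h
  have h1 : (QuotientGroup.mk (⟨x, hx⟩ : S) : S ⧸ K.subgroupOf S) ^ n = 1 := by
    rw [← QuotientGroup.mk_pow, show (⟨x, hx⟩ : S) ^ n = 1 from Subtype.ext hxn, QuotientGroup.mk_one]
  have h2 : (QuotientGroup.mk (⟨x, hx⟩ : S) : S ⧸ K.subgroupOf S) ^ m = 1 := by
    rw [← hidx]; exact pow_card_eq_one'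
  have := pow_gcd_eq_one.2 ⟨h1, h2⟩
  rw [hcop, pow_one, QuotientGroup.eq_one_iff] at this
  exact this

omit [Finite P] in
/-- The elements of a group generated by two commuting elements of exponent `n`. -/
theorem exists_pow_pow {a b : P} {n : ℕ} (hn : 0 < n) (ha : a ^ n = 1) (hb : b ^ n = 1)
    (hab : Commute a b) {x : P} (hx : x ∈ Subgroup.closure ({a, b} : Set P)) :
    ∃ i < n, ∃ j < n, x = a ^ i * b ^ j := by
  have hmod : ∀ i j : ℕ, a ^ i * b ^ j = a ^ (i % n) * b ^ (j % n) := fun i j => by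
    rw [← pow_eq_pow_mod i ha, ← pow_eq_pow_mod j hb]
  suffices ∃ i j : ℕ, x = a ^ i * b ^ j by
    obtain ⟨i, j, rfl⟩ := this
    exact ⟨_, Nat.mod_lt _ hn, _, Nat.mod_lt _ hn, hmod i j⟩
  induction hx using Subgroup.closure_induction with
  | mem g hg =>
    rcases hg with rfl | rfl
    · exact ⟨1, 0, by simp⟩
    · exact ⟨0, 1, by simp⟩
  | one => exact ⟨0, 0, by simp⟩
  | mul y z _ _ hy hz =>
    obtain ⟨i, j, rfl⟩ := hy
    obtain ⟨k, l, rfl⟩ := hz
    refine ⟨i + k, j + l, ?_⟩
    rw [pow_add, pow_add, mul_assoc, mul_assoc, ← mul_assoc (b ^ j), (hab.symm.pow_pow j k).eq, mul_assoc]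
  | inv y _ hy =>
    obtain ⟨i, j, rfl⟩ := hy
    refine ⟨(n - 1) * i, (n - 1) * j, eq_comm.1 (eq_inv_of_mul_eq_one_left ?_)⟩
    rw [mul_assoc, ← mul_assoc (b ^ _), (hab.symm.pow_pow _ i).eq, mul_assoc, ← mul_assoc (a ^ _),
      ← pow_add, ← pow_add, ← Nat.succ_mul, ← Nat.succ_mul,
      show (n - 1).succ = n by omega, pow_mul, pow_mul, ha, hb, one_pow, one_pow, one_mul]

/-- Subgroups of order `p ^ k` of index prime to `p` are conjugate. -/
theorem exists_conj {G : Type*} [Group G] [Finite G] {p k : ℕ} [Fact p.Prime] (A B : Subgroup G)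
    (hA : Nat.card A = p ^ k) (hB : Nat.card B = p ^ k) (hp : ¬ p ^ (k + 1) ∣ Nat.card G) :
    ∃ c : G, ∀ a ∈ A, c * a * c⁻¹ ∈ B := by
  have hidx : ∀ C : Subgroup G, Nat.card C = p ^ k → ¬ p ∣ C.index := fun C hC h => by
    refine hp ?_
    rw [← C.card_mul_index, hC, pow_succ]
    exact mul_dvd_mul_left _ h
  let SA : Sylow p G := (IsPGroup.of_card hA).toSylow (hidx A hA)
  let SB : Sylow p G := (IsPGroup.of_card hB).toSylow (hidx B hB)
  obtain ⟨c, hc⟩ := MulAction.exists_smul_eq G SA SB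
  refine ⟨c, fun a ha => ?_⟩
  have : c * a * c⁻¹ ∈ (c • SA : Sylow p G) := Subgroup.smul_mem_pointwise_smul a (MulAut.conj c) A ha
  rw [hc] at this
  exact this

end Cfsg.Agent.Lib.ThOut.OutGroup
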