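import Cfsg.Agent.Lib.ThOut.OutCheck
import Cfsg.Agent.Lib.ThOut.Count
import Cfsg.Agent.Lib.ThOut.OutGroup
import Cfsg.Agent.Lib.ThDce.Data.All
import Cfsg.Agent.Lib.ThP.DSimple.Main

/-!
The centralisers in the Thompson group of the elements of order 7 of `P` fixing 21 points lie in `P`,
given that `P` has index 143127000.
-/

set_option autoImplicit false
set_option maxRecDepth 20000

namespace Cfsg.Agent.Lib.ThOut

open Cfsg.Agent.Lib.CosetEnum Cfsg.Agent.Lib.ThP Cfsg.Agent.Lib.ExactCover

/-- The Thompson group. -/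
abbrev Th : Type := Cfsg.Spor.Th

/-- The representatives of the nodes. -/
noncomputable def gI (i : Fin 11) : Th := ThDce.Data.cert.g (ThDce.Data.cert.nd i)

/-- The lengths of the orbits. -/
def dI (i : Fin 11) : ℕ := orbLen.getD i 0

/-- Elements of the class of order 7 fixing 21 points. -/
def ClassA (x : P) : Prop := x ^ 7 = 1 ∧ nfix x = 21

theorem gI_zero : gI 0 = 1 := by
  change ThDce.Data.cert.g 0 = 1
  exact ThDce.DData.rep_zero _

theorem finite_P : Finite P := Nat.finite_of_card_ne_zero (by rw [card_P]; omega)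

/-- The stabiliser generated at a node. -/
noncomputable def stabAt (i : ℕ) : Subgroup P := Subgroup.closure {x : P | ∃ g ∈ gensAt i, val g = x}

theorem stabAt_le (i : Fin 11) : stabAt i ≤ Count.full toTh (gI i) := fun σ hσ =>
  ThDce.Data.cert.node_stab (i := i) i.2 hσ

theorem stab_facts (k : ℕ) (hk : k < 10) : (stCerts.getD k st1).check (gensAt (k + 1)) = true ∧
    chainSize (stCerts.getD k st1).levels * orbLen.getD (k + 1) 0 = 634023936 := by
  have h := stabOK_true
  rw [stabOK, allBelow_iff] at h
  have h' := h k hk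
  rw [stabOne, Bool.and_eq_true, Nat.beq_eq] at h'
  exact h'

theorem card_stabAt (i : Fin 11) : 634023936 ≤ dI i * Nat.card (Count.full toTh (gI i)) := by
  haveI := finite_P
  rcases eq_or_ne i 0 with rfl | hi
  · have : Count.full toTh (gI 0) = ⊤ := eq_top_iff.2 fun p _ => by
      rw [Count.mem_full, gI_zero, one_mul, inv_one, mul_one]; exact ⟨p, rfl⟩
    rw [this, Subgroup.card_top, card_P]
    exact le_of_eq (by decide +kernel)
  · obtain ⟨k, hk⟩ : ∃ k, i.1 = k + 1 := ⟨i.1 - 1, by
      have : i.1 ≠ 0 := fun h => hi (Fin.ext h)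
      omega⟩
    obtain ⟨h1, h2⟩ := stab_facts k (by omega)
    have hle : Nat.card (stabAt (k + 1)) ≤ Nat.card (Count.full toTh (gI i)) :=
      Nat.card_le_card_of_injective _ (Subgroup.inclusion_injective (hk ▸ stabAt_le i))
    refine le_trans (le_of_eq ?_) (Nat.mul_le_mul_left _ ((StabCert.sound h1).trans hle))
    rw [← h2, mul_comm, dI, hk]

variable (hinj : Function.Injective ThP.toTh) (hidx : ThP.toTh.range.index = 143127000)

include hinj hidx

theorem card_Th : Nat.card Th = 90745943887872000 := by
  rw [← toTh.range.card_mul_index, hidx,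
    ← Nat.card_congr (MonoidHom.ofInjective hinj).toEquiv, card_P]

theorem setup : Count.Setup toTh gI dI where
  cover x := by
    obtain ⟨i, hi, p, h⟩ := ThDce.Data.cert.U_top x
    exact ⟨⟨i, hi⟩, p, h⟩
  lower i := card_P ▸ card_stabAt i
  total := by
    rw [card_Th hinj hidx, card_P, show ∑ i, dI i = 143127000 by decide +kernel]

theorem card_full (i : Fin 11) : dI i * Nat.card (Count.full toTh (gI i)) = 634023936 := by
  haveI := finite_P
  haveI : Finite Th := ThDce.Data.cert.finite
  rw [Count.card_full (setup hinj hidx) i, card_P]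

theorem full_eq {i : Fin 11} {k : ℕ} (hk : i.1 = k + 1) :
    stabAt i = Count.full toTh (gI i) := by
  haveI := finite_P
  refine Subgroup.eq_of_le_of_card_ge (stabAt_le i) ?_
  obtain ⟨h1, h2⟩ := stab_facts k (by omega)
  have hs := StabCert.sound h1
  have hf := card_full hinj hidx i
  rw [dI, hk] at hf
  rw [← hk] at hs
  have hd : 0 < orbLen.getD (k + 1) 0 := Nat.pos_of_ne_zero fun h0 => by
    rw [h0, Nat.mul_zero] at h2; omega
  refine le_trans (le_of_eq ?_) hs
  exact Nat.eq_of_mul_eq_mul_left hd (by rw [hf, ← h2, mul_comm])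

end Cfsg.Agent.Lib.ThOut
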