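import Cfsg.Agent.Lib.ThOut.CheckStab
import Cfsg.Agent.Lib.ThOut.CheckMuls0
import Cfsg.Agent.Lib.ThOut.CheckMuls1
import Cfsg.Agent.Lib.ThOut.CheckMuls2
import Cfsg.Agent.Lib.ThOut.CheckImgs
import Cfsg.Agent.Lib.ThOut.CheckE
import Cfsg.Agent.Lib.ThOut.CheckCent

/-! The checked data for the outer automorphisms of the Thompson group. -/

namespace Cfsg.Agent.Lib.ThOut

open Cfsg.Agent.Lib.CosetEnum

theorem mulsOK_true : mulsOK = true := by
  rw [mulsOK, allBelow_iff]
  intro i hi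
  by_cases h0 : i < 120
  · exact mulsPart0 i (by omega) h0
  by_cases h1 : i < 240
  · exact mulsPart1 i (by omega) h1
  exact mulsPart2 i (by omega) hi

end Cfsg.Agent.Lib.ThOut
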