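import Cfsg.Agent.Lib.ThOut.Cent
import Cfsg.Agent.Lib.ThOut.Mult

/-!
Lower bounds for subgroups of `P` given by generating words, and the number of fixed points of an element.
-/

set_option autoImplicit false
set_option maxRecDepth 20000

namespace Cfsg.Agent.Lib.ThOut

open Cfsg.Agent.Lib.CosetEnum Cfsg.Agent.Lib.ThP

/-- A stabiliser chain inside a subgroup given by words. -/
structure StabCert where
  ws : List (List (ℕ × Bool))
  sw : List (List ℕ)
  P : PTree
  levels : List OrbLevel

namespace StabCert

/-- The tables are those of the words and the chain is valid. -/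
noncomputable def check (S : StabCert) (gens : List (List ℕ)) : Bool :=
  gens.all okWord && levelsOK S.ws.length 819 S.P S.levels [] &&
  allBelow S.ws.length fun k => force (Nat.mul k 819) fun o =>
    okWord (ThDce.genW gens (S.ws.getD k [])) && okWord (S.sw.getD k []) &&
    wordEq (ThDce.genW gens (S.ws.getD k [])) (S.sw.getD k []) &&
    allBelow 819 fun i => Nat.beq (scan 14 table (S.sw.getD k []) i) (get32 S.P (Nat.add o i))

theorem sound {S : StabCert} {gens : List (List ℕ)} (h : S.check gens = true) :
    chainSize S.levels ≤ Nat.card (Subgroup.closure {x : ThP.P | ∃ g ∈ gens, val g = x}) := by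
  simp only [check, force_eq, Bool.and_eq_true, List.all_eq_true, allBelow_iff, Nat.beq_eq,
    Nat.mul_eq, Nat.add_eq] at h
  obtain ⟨⟨hg, hlev⟩, htab⟩ := h
  have : Finite ThP.P := Nat.finite_of_card_ne_zero (by rw [card_P]; omega)
  set T := Subgroup.closure {x : ThP.P | ∃ g ∈ gens, val g = x}
  have hP : ∀ k < S.ws.length, ∃ x : T, ∀ i : Fin 819,
      (((act.comp T.subtype) x)⁻¹ i).1 = get32 S.P (k * 819 + i.1) := by
    intro k hk
    obtain ⟨⟨⟨hok, hok'⟩, heq⟩, he⟩ := htab k hk
    refine ⟨⟨_, ThDce.Side.genW_spec (S := ThDce.pSide) (gens := gens)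
      (fun w hw => hg w hw) (S.ws.getD k [])⟩, fun i => ?_⟩
    change ((act (val _))⁻¹ i).1 = _
    rw [val_eq_of_wordEq hok hok' heq, act_word _ (okWord_iff.1 hok')]
    exact he i.1 i.2
  exact (levels_sound (act.comp T.subtype) hP S.levels [] hlev).trans
    ((Nat.card_le_card_of_injective
      (fun σ : fixList (act.comp T.subtype) [] => (⟨σ.1, σ.2.1⟩ : (act.comp T.subtype).range))
      fun _ _ huv => Subtype.ext (congrArg (fun z : (act.comp T.subtype).range =>
        (z.1 : Equiv.Perm (Fin 819))) huv)).trans
      (Nat.card_le_card_of_surjective _ (act.comp T.subtype).rangeRestrict_surjective))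

end StabCert

/-- The number of points an element fixes. -/
noncomputable def nfix (p : P) : ℕ := Nat.card {x : Fin 819 // act p x = x}

theorem nfix_conj (p q : P) : nfix (q * p * q⁻¹) = nfix p :=
  Nat.card_congr (Equiv.subtypeEquiv (act q⁻¹) fun x => by
    simp only [map_mul, map_inv, Equiv.Perm.mul_apply]
    exact ⟨fun h => (act q).injective (by rw [h, Equiv.Perm.coe_inv, Equiv.apply_symm_apply]),
      fun h => by rw [h, Equiv.Perm.coe_inv, Equiv.apply_symm_apply]⟩)

/-- The number of points a word fixes. -/
noncomputable def fixW (w : List ℕ) : ℕ :=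
  ((List.range 819).filter fun i => Nat.beq (scan 14 table w i) i).length

theorem nfix_word (w : List ℕ) (hw : okWord w = true) : nfix (val w) = fixW w := by
  classical
  rw [nfix, Nat.card_eq_fintype_card, Fintype.card_subtype]
  have h1 : ((List.range 819).filter fun i => Nat.beq (scan 14 table w i) i).toFinset.card = fixW w :=
    List.toFinset_card_of_nodup (List.nodup_range.filter _)
  rw [← h1, ← Finset.card_map Fin.valEmbedding]
  congr 1
  ext i
  have key : ∀ x : Fin 819, act (val w) x = x ↔ scan 14 table w x.1 = x.1 := fun x => by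
    rw [← act_word w (okWord_iff.1 hw) x, ← Fin.ext_iff, Equiv.Perm.inv_def, Equiv.symm_apply_eq]
    exact eq_comm
  simp only [Finset.mem_map, Finset.mem_filter, Finset.mem_univ, true_and, Fin.valEmbedding_apply,
    List.mem_toFinset, List.mem_filter, List.mem_range, Nat.beq_eq]
  constructor
  · rintro ⟨x, hx, rfl⟩
    exact ⟨x.2, (key x).1 hx⟩
  · rintro ⟨h, hs⟩
    exact ⟨⟨i, h⟩, (key _).2 hs, rfl⟩

end Cfsg.Agent.Lib.ThOut
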