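import Cfsg.Agent.Lib.ThOut.OutData
import Cfsg.Agent.Lib.ThDce.Data.Model

/-!
The finite checks for the outer automorphisms of the Thompson group: lower bounds of the node stabilisers,
multipliers at the tenth node, a group of order 49, centralisers.
-/

set_option autoImplicit false
set_option maxRecDepth 100000

namespace Cfsg.Agent.Lib.ThOut

open Cfsg.Agent.Lib.CosetEnum Cfsg.Agent.Lib.ThP Cfsg.Agent.Lib.ExactCover

/-- The data of the enumeration. -/
abbrev thModel : ThDce.Model := ThDce.Data.model

/-- The generators at a node. -/
def gensAt (i : ℕ) : List (List ℕ) := (thModel.vtx (thModel.nodes.getD i 0)).gens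

/-- The lengths of the orbits of `P`. -/
def orbLen : List ℕ :=
  [1, 17199, 45864, 2201472, 1304576, 5031936, 8128512, 11741184, 105670656, 8805888, 179712]

/-- The bound of one stabiliser. -/
noncomputable def stabOne (k : ℕ) : Bool :=
  (stCerts.getD k st1).check (gensAt (Nat.add k 1)) &&
    Nat.beq (Nat.mul (chainSize (stCerts.getD k st1).levels) (orbLen.getD (Nat.add k 1) 0)) 634023936

/-- The bounds of the stabilisers. -/
noncomputable def stabOK : Bool := allBelow 10 stabOne

/-- Is an equation needed? -/
noncomputable def needB (i : ℕ) : Bool := needs.any fun j => Nat.beq i j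

/-- The multiplier of an equation. -/
def mulOf (i : ℕ) : List ℕ := muls.getD i []

/-- One multiplier is right. -/
noncomputable def mulOne (i : ℕ) : Bool := !needB i || checkM thModel.D mulOf needB i

/-- The multipliers are right. -/
noncomputable def mulsOK : Bool := allBelow 358 mulOne

/-- The equation of a generator at the tenth node. -/
def factTen (j : ℕ) : ℕ := (thModel.gfact.getD (thModel.nodes.getD 10 0) []).getD j 0

/-- The images of the generators at the tenth node. -/
def imgs : List (List ℕ) := (List.range (gensAt 10).length).map fun j => mulOf (factTen j)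

/-- The images are those of the generators. -/
noncomputable def imgsOK : Bool :=
  imgs.all okWord && allBelow (gensAt 10).length fun j =>
    force (factTen j) fun n =>
    force (thModel.nodes.getD 10 0) fun v =>
    Nat.blt n 358 && needB n && Nat.beq (thModel.D.fact n).a.1 v && Nat.beq (thModel.D.fact n).b.1 v &&
      ThDce.leq ((gensAt 10).getD j [])
        ((thModel.D.fact n).a.2 ++ invWord (thModel.D.fact n).b.2)

/-- The word of an element of the group of order 49. -/
def ew (i j : ℕ) : List ℕ := (List.replicate i [10]).flatten ++ (List.replicate j hWord).flatten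

/-- The conjugate of that element at the tenth node. -/
def ew1 (i j : ℕ) : List ℕ := p1 ++ ew i j ++ invWord p1

/-- The facts about the group of order 49. -/
noncomputable def eOK : Bool :=
  okWord hWord && okWord p1 && okWord p2 && okWord (invWord p1) && okWord (invWord p2) &&
  (gensAt 10).all okWord &&
  okWord (ThDce.genW (gensAt 10) la) && okWord (ThDce.genW (gensAt 10) lb) &&
  okWord (ThDce.genW imgs la) && okWord (ThDce.genW imgs lb) &&
  wordEq (List.replicate 7 [10]).flatten [] && wordEq (List.replicate 7 hWord).flatten [] &&
  wordEq ([10] ++ hWord) (hWord ++ [10]) &&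
  wordEq (ew1 1 0) (ThDce.genW (gensAt 10) la) &&
  wordEq (ew1 0 1) (ThDce.genW (gensAt 10) lb) &&
  wordEq (ThDce.genW imgs la) (p2 ++ ew 0 6 ++ invWord p2) &&
  wordEq (ThDce.genW imgs lb) (p2 ++ ew 1 0 ++ invWord p2) &&
  Nat.beq (fixW (ew 1 0)) 21 && Nat.beq (fixW (ew 1 3)) 21 && Nat.beq (fixW (ew 1 5)) 21

/-- The two classes in the group of order 49. -/
noncomputable def classOK : Bool :=
  allBelow 7 fun i => allBelow 7 fun j =>
    force (Nat.mod (Nat.mul 6 i) 7) fun i' =>
    bif Nat.beq i 0 && Nat.beq j 0 then true else
      !wordEq (ew i j) [] && Nat.beq (fixW (ew i j)) 21 == !Nat.beq (fixW (ew j i')) 21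

/-- The group of order 49 is normal at the tenth node. -/
noncomputable def normTenOK : Bool :=
  (gensAt 10).all fun g => okWord (invWord g) &&
    ([(1, 0), (0, 1)] : List (ℕ × ℕ)).all fun e =>
      (List.range 7).any fun i => (List.range 7).any fun j =>
        wordEq (g ++ ew1 e.1 e.2 ++ invWord g) (ew1 i j)

/-- The element of order 7 at the fifth node. -/
def fWord : List ℕ := ThDce.genW (gensAt 5) l5

/-- Its powers fix no 21 points. -/
noncomputable def fiveOK : Bool :=
  (gensAt 5).all okWord && okWord fWord && wordEq (List.replicate 7 fWord).flatten [] &&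
  !wordEq fWord [] &&
  (allBelow 7 fun k => !Nat.beq (fixW (List.replicate k fWord).flatten) 21) &&
  (gensAt 5).all fun g => okWord (invWord g) &&
    (List.range 7).any fun i =>
      wordEq (g ++ fWord ++ invWord g) (List.replicate i fWord).flatten

/-- The three chosen elements fixing 21 points. -/
def threeA : List (ℕ × ℕ) := [(1, 0), (1, 3), (1, 5)]

/-- The three pairs. -/
def threePairs : List (ℕ × ℕ) := [(0, 1), (0, 2), (1, 2)]

/-- The generators and their inverses used for a pair. -/
def pairGens (k : ℕ) : List (List ℕ) :=
  let l := cents.getD (threePairs.getD k (0, 0)).1 [] ++ cents.getD (threePairs.getD k (0, 0)).2 []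
  l ++ l.map invWord

/-- The centralisers of each pair give the six letters. -/
noncomputable def pairsOK : Bool :=
  (allBelow 3 fun k => (cents.getD k []).all fun c => okWord c &&
    wordEq (c ++ ew (threeA.getD k (0, 0)).1 (threeA.getD k (0, 0)).2)
      (ew (threeA.getD k (0, 0)).1 (threeA.getD k (0, 0)).2 ++ c)) &&
  allBelow 3 fun k => allBelow 6 fun t =>
    ((pairExpr.getD k []).getD t []).all (fun i => Nat.blt i (pairGens k).length) &&
    wordEq (((pairExpr.getD k []).getD t []).flatMap fun i => (pairGens k).getD i []) [Nat.mul 2 t]

/-- The element with a long cycle at the tenth node. -/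
def xWordS : List ℕ := ThDce.genW (gensAt 10) xl

/-- Only the identity commutes with the stabiliser at the tenth node. -/
noncomputable def centOK : Bool :=
  okWord xWordS && wordEq centS.w xWordS &&
  centS.list.all fun v => wordEq v [] || (gensAt 10).any fun g => !wordEq (v ++ g) (g ++ v)

end Cfsg.Agent.Lib.ThOut
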