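import Cfsg.Agent.Lib.ThOut.CentA
import Cfsg.Agent.Lib.ThOut.Aut
import Cfsg.Prelude.Def_KGroupFacts

/-!
The outer automorphism group of the Thompson group is trivial, given that `P` is embedded with index
143127000: an automorphism can be made to fix the group of order 49, hence `D`, hence `P`, and then the
element exchanging the two classes of that group.
-/

set_option autoImplicit false
set_option maxRecDepth 20000

namespace Cfsg.Agent.Lib.ThOut

open Cfsg.Agent.Lib.CosetEnum Cfsg.Agent.Lib.ThP Cfsg.Agent.Lib.ExactCover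

/-- The element exchanging the two classes. -/
noncomputable def nEl : Th := (toTh (val p2))⁻¹ * gI 10 * toTh (val p1)

theorem nEl_conj (i j : ℕ) :
    nEl * toTh (sE ^ i * hE ^ j) * nEl⁻¹ = toTh (sE ^ j * hE ^ six i) := by
  have h := conjTen_E i j
  rw [conjTen_apply] at h
  calc _ = (toTh (val p2))⁻¹ * (gI 10 * toTh (val p1 * (sE ^ i * hE ^ j) * (val p1)⁻¹) * (gI 10)⁻¹) *
        toTh (val p2) := by simp only [nEl, map_mul, map_inv]; group
    _ = _ := by rw [h]; simp only [map_mul, map_inv]; group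

/-- The `k`-th element fixing 21 points. -/
noncomputable def aEl (k : ℕ) : P := sE ^ (threeA.getD k (0, 0)).1 * hE ^ (threeA.getD k (0, 0)).2

theorem classA_aEl : ∀ k < 3, ClassA (aEl k) := by
  have h := eOK_true
  simp only [eOK, Bool.and_eq_true, Nat.beq_eq] at h
  obtain ⟨⟨⟨-, h0⟩, h1⟩, h2⟩ := h
  have key : ∀ i j, fixW (ew i j) = 21 → ClassA (sE ^ i * hE ^ j) := fun i j hij => by
    refine ⟨?_, by rw [← val_ew, nfix_word _ (okWord_ew i j)]; exact hij⟩
    rw [(E_rel.2.2.pow_pow i j).mul_pow, ← pow_mul, ← pow_mul, mul_comm i, mul_comm j, pow_mul, pow_mul,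
      E_rel.1, E_rel.2.1, one_pow, one_pow, one_mul]
  intro k hk
  interval_cases k
  · exact key 1 0 h0
  · exact key 1 3 h1
  · exact key 1 5 h2

theorem union_key : ∀ b1 b2 b3 b4 b5 b6 b7 b8 b9 : Bool,
    (1 + ((bif b1 then 17199 else 0) + ((bif b2 then 45864 else 0) + ((bif b3 then 2201472 else 0) +
      ((bif b4 then 1304576 else 0) + ((bif b5 then 5031936 else 0) + ((bif b6 then 8128512 else 0) +
      ((bif b7 then 11741184 else 0) + ((bif b8 then 105670656 else 0) +
      ((bif b9 then 8805888 else 0) + (179712 + 0)))))))))))  ∣ 143127000 →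
      (b1 && b2 && b3 && b4 && b5 && b6 && b7 && b8 && b9) = true := by decide +kernel

theorem union_all (b : Fin 11 → Bool) (h0 : b 0 = true) (h10 : b 10 = true)
    (h : (∑ i, bif b i then dI i else 0) ∣ 143127000) : ∀ i, b i = true := by
  have key := union_key (b 1) (b 2) (b 3) (b 4) (b 5) (b 6) (b 7) (b 8) (b 9)
  simp only [Fin.sum_univ_succ, Fin.sum_univ_zero] at h
  have e : ∀ i : Fin 11, dI i = orbLen.getD i 0 := fun _ => rfl
  simp [e, orbLen, h0, h10] at h key ⊢
  have := key h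
  intro i
  fin_cases i <;> simp_all

attribute [local irreducible] gI

variable (hinj : Function.Injective ThP.toTh) (hidx : ThP.toTh.range.index = 143127000)

include hinj hidx

/-- An automorphism preserving the group of order 49 and sending two of the three chosen elements to
the class fixing 21 points maps `D` into `P`. -/
theorem map_D_le (φ : MulAut Th) {a b : ℕ} {k : ℕ} (hk : k < 3) (hp : threePairs.getD k (0, 0) = (a, b))
    (ha : ∃ x, ClassA x ∧ φ (toTh (aEl a)) = toTh x) (hb : ∃ x, ClassA x ∧ φ (toTh (aEl b)) = toTh x) :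
    ∀ y ∈ DSimple.subD, φ (toTh y) ∈ toTh.range := by
  let T : Subgroup P := (toTh.range.comap φ.toMonoidHom).comap toTh
  have h := pairsOK_true
  simp only [pairsOK, Bool.and_eq_true, allBelow_iff, List.all_eq_true, force_eq, Nat.blt_eq] at h
  obtain ⟨hcent, hexp⟩ := h
  have hcT : ∀ m < 3, (∃ x, ClassA x ∧ φ (toTh (aEl m)) = toTh x) →
      ∀ c ∈ cents.getD m [], okWord c = true ∧ val c ∈ T := by
    rintro m hm ⟨x, hx, hxe⟩ c hc
    obtain ⟨hok, he⟩ := hcent m hm c hc
    refine ⟨hok, cent_classA hinj hidx hx (c := φ (toTh (val c))) ?_⟩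
    have := val_eq_of_wordEq (okWord_append hok (okWord_ew _ _)) (okWord_append (okWord_ew _ _) hok) he
    rw [val_append, val_append, val_ew] at this
    rw [← hxe, ← map_mul, ← map_mul, ← map_mul, ← map_mul]
    exact congrArg (fun z => φ (toTh z)) this
  have hab : a < 3 ∧ b < 3 := by
    have : ∀ k < 3, (threePairs.getD k (0, 0)).1 < 3 ∧ (threePairs.getD k (0, 0)).2 < 3 := by decide
    have := this k hk
    rwa [hp] at this
  have hgens : ∀ i < (pairGens k).length, okWord ((pairGens k).getD i []) = true ∧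
      val ((pairGens k).getD i []) ∈ T := by
    intro i hi
    have hl : ∀ c ∈ cents.getD a [] ++ cents.getD b [], okWord c = true ∧ val c ∈ T := fun c hc =>
      (List.mem_append.1 hc).elim (hcT a hab.1 ha c) (hcT b hab.2 hb c)
    have hm : (pairGens k).getD i [] ∈ pairGens k := by
      rw [List.getD_eq_getElem _ _ hi]; exact List.getElem_mem hi
    generalize (pairGens k).getD i [] = g at hm
    simp only [pairGens, hp] at hm
    rcases List.mem_append.1 hm with hm | hm
    · exact hl g hm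
    · obtain ⟨c, hc, rfl⟩ := List.mem_map.1 hm
      exact ⟨ThDce.okP_invWord (hl c hc).1, by
        rw [ThDce.val_invWord _ (hl c hc).1]; exact inv_mem (hl c hc).2⟩
  have hletter : ∀ t < 6, DSimple.el (2 * t) ∈ T := by
    intro t ht
    obtain ⟨hlt, he⟩ := hexp k hk t ht
    generalize (pairExpr.getD k []).getD t [] = l at hlt he
    have hval : ∀ l : List ℕ, (∀ i ∈ l, i < (pairGens k).length) →
        okWord (l.flatMap fun i => (pairGens k).getD i []) = true ∧
          val (l.flatMap fun i => (pairGens k).getD i []) ∈ T := by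
      intro l
      induction l with
      | nil => exact fun _ => ⟨rfl, by simp [val_nil, one_mem]⟩
      | cons i l ih =>
        intro hl
        simp only [List.flatMap_cons]
        obtain ⟨a1, a2⟩ := hgens i (hl i List.mem_cons_self)
        obtain ⟨b1, b2⟩ := ih fun j hj => hl j (List.mem_cons_of_mem _ hj)
        exact ⟨okWord_append a1 b1, by rw [val_append]; exact mul_mem a2 b2⟩
    obtain ⟨h1, h2⟩ := hval l hlt
    rw [val_eq_of_wordEq h1 (v := [2 * t]) (by rw [okWord_iff]; simp; omega) he,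
      DSimple.val_singleton] at h2
    exact h2
  have hD : DSimple.subD ≤ T := by
    rw [DSimple.subD, DSimple.Dsub, Subgroup.closure_le]
    intro z hz
    simp only [Set.mem_insert_iff, Set.mem_singleton_iff] at hz
    rcases hz with rfl | rfl | rfl | rfl | rfl | rfl
    exacts [hletter 0 (by omega), hletter 1 (by omega), hletter 2 (by omega), hletter 3 (by omega),
      hletter 4 (by omega), hletter 5 (by omega)]
  exact fun y hy => hD hy

/-- Such an automorphism maps `P` into `P`. -/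
theorem map_P_le (φ : MulAut Th) (hD : ∀ y ∈ DSimple.subD, φ (toTh y) ∈ toTh.range) :
    ∀ p, φ (toTh p) ∈ toTh.range := by
  haveI := finite_P
  haveI : Finite Th := ThDce.Data.cert.finite
  haveI := DSimple.subD_normal
  haveI := DSimple.isSimple_subD
  let γ : DSimple.subD →* P := ((MonoidHom.ofInjective hinj).symm.toMonoidHom).comp
    ((φ.toMonoidHom.comp (toTh.comp DSimple.subD.subtype)).codRestrict toTh.range fun y => hD _ y.2)
  have hγ : ∀ y, toTh (γ y) = φ (toTh y.1) := fun y => by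
    have := (MonoidHom.ofInjective hinj).apply_symm_apply ⟨φ (toTh y.1), hD _ y.2⟩
    exact congrArg Subtype.val this
  have hγinj : Function.Injective γ := fun u v h =>
    Subtype.ext (hinj (φ.injective (by rw [← hγ, ← hγ, h])))
  let f : DSimple.subD →* P ⧸ DSimple.subD := (QuotientGroup.mk' DSimple.subD).comp γ
  have hker : f.ker = ⊤ := by
    rcases f.normal_ker.eq_bot_or_eq_top with h | h
    · exfalso
      have := Nat.card_le_card_of_injective _ ((MonoidHom.ker_eq_bot_iff f).1 h)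
      rw [DSimple.card_subD, show Nat.card (P ⧸ DSimple.subD) = DSimple.subD.index from rfl,
        DSimple.index_subD] at this
      omega
    · exact h
  have hmem : ∀ y, γ y ∈ DSimple.subD := fun y => by
    have : y ∈ f.ker := hker ▸ Subgroup.mem_top y
    simpa [f, QuotientGroup.eq_one_iff] using this
  have hsurj : ∀ z ∈ DSimple.subD, ∃ y, γ y = z := by
    intro z hz
    let γ' : DSimple.subD → DSimple.subD := fun y => ⟨γ y, hmem y⟩
    obtain ⟨y, hy⟩ := (Finite.injective_iff_surjective.1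
      (fun u v h => hγinj (congrArg Subtype.val h) : Function.Injective γ')) ⟨z, hz⟩
    exact ⟨y, congrArg Subtype.val hy⟩
  intro p
  obtain ⟨i, q, r, hr⟩ := (setup hinj hidx).cover (φ (toTh p))
  have hce : φ (toTh p) = toTh r * (gI i * toTh q) := by rw [hr, inv_mul_cancel_right]
  have hle : DSimple.subD ≤ Count.full toTh (gI i) := by
    intro z hz
    obtain ⟨y, hy⟩ := hsurj (q⁻¹ * z * q) (by
      simpa using DSimple.subD_normal.conj_mem z hz q⁻¹)
    obtain ⟨w, hw⟩ : φ (toTh (p * y.1 * p⁻¹)) ∈ toTh.range :=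
      hD _ (DSimple.subD_normal.conj_mem y.1 y.2 p)
    rw [map_mul, map_mul, map_mul, map_mul, map_inv, map_inv, ← hγ, hy, hce] at hw
    refine Count.mem_full _ |>.2 ⟨r⁻¹ * w * r, ?_⟩
    rw [map_mul, map_mul, hw]
    simp only [map_mul, map_inv]
    group
  rcases eq_or_ne i 0 with rfl | hi
  · rw [hce, gI_zero, one_mul]; exact mul_mem ⟨r, rfl⟩ ⟨q, rfl⟩
  exfalso
  have hcard := Nat.card_le_card_of_injective _ (Subgroup.inclusion_injective hle)
  rw [DSimple.card_subD] at hcard
  have hfull := card_full hinj hidx i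
  have hbig : ∀ i : Fin 11, i ≠ 0 → 4 ≤ dI i := by decide +kernel
  have h4 := Nat.mul_le_mul (hbig i hi) hcard
  rw [hfull] at h4
  omega

/-- The image of the group of order 49. -/
theorem card_subE_map : Nat.card (subE.map toTh) = 7 ^ 2 := by
  rw [← Nat.card_congr (subE.equivMapOfInjective _ hinj).toEquiv, subE_card]
  norm_num

/-- An inner automorphism followed by it fixes every element of `P`. -/
theorem exists_fix_P (φ : MulAut Th) : ∃ c : Th, ∀ p : P, c * φ (toTh p) * c⁻¹ = toTh p := by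
  haveI := finite_P
  haveI : Finite Th := ThDce.Data.cert.finite
  haveI : Fact (Nat.Prime 7) := ⟨by norm_num⟩
  obtain ⟨c, hc⟩ := OutGroup.exists_conj ((subE.map toTh).map φ.toMonoidHom) (subE.map toTh)
    (p := 7) (k := 2)
    (by rw [← Nat.card_congr ((subE.map toTh).equivMapOfInjective _ φ.injective).toEquiv,
      card_subE_map hinj hidx])
    (card_subE_map hinj hidx)
    (by rw [card_Th hinj hidx]; decide +kernel)
  let φ₁ : MulAut Th := MulAut.conj c * φ
  have hφ₁ : ∀ x, φ₁ x = c * φ x * c⁻¹ := fun x => rfl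
  have hEφ : ∀ e ∈ subE, ∃ i < 7, ∃ j < 7, φ₁ (toTh e) = toTh (sE ^ i * hE ^ j) := by
    intro e he
    obtain ⟨e', he', hee⟩ := hc _ (Subgroup.mem_map_of_mem _ (Subgroup.mem_map_of_mem _ he))
    obtain ⟨i, hi, j, hj, rfl⟩ := mem_subE he'
    exact ⟨i, hi, j, hj, hee.symm⟩
  have h3 : ∀ k < 3, ∃ i < 7, ∃ j < 7, ¬(i = 0 ∧ j = 0) ∧ φ₁ (toTh (aEl k)) = toTh (sE ^ i * hE ^ j) := by
    intro k hk
    obtain ⟨i, hi, j, hj, h⟩ := hEφ (aEl k) (pow_mem_subE _ _)
    refine ⟨i, hi, j, hj, ?_, h⟩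
    rintro ⟨rfl, rfl⟩
    refine (classA_aEl k hk).ne_one (hinj (φ₁.injective ?_))
    rw [h, map_one, map_one, pow_zero, pow_zero, one_mul, map_one]
  obtain ⟨i0, hi0, j0, hj0, n0, e0⟩ := h3 0 (by omega)
  obtain ⟨i1, hi1, j1, hj1, n1, e1⟩ := h3 1 (by omega)
  obtain ⟨i2, hi2, j2, hj2, n2, e2⟩ := h3 2 (by omega)
  have hA : ∀ {i j : ℕ}, nfix (sE ^ i * hE ^ j) = 21 → ClassA (sE ^ i * hE ^ j) := fun {i j} h => ⟨by
    rw [(E_rel.2.2.pow_pow i j).mul_pow, ← pow_mul, ← pow_mul, mul_comm i, mul_comm j, pow_mul, pow_mul,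
      E_rel.1, E_rel.2.1, one_pow, one_pow, one_mul], h⟩
  have hB : ∀ {i j : ℕ}, i < 7 → j < 7 → ¬(i = 0 ∧ j = 0) → ¬ nfix (sE ^ i * hE ^ j) = 21 →
      ClassA (sE ^ j * hE ^ six i) := fun {i j} hi hj hn h =>
    hA (Classical.not_not.1 fun hn' => h ((class_facts hi hj hn).2.2 hn'))
  obtain ⟨φ₂, c₂, hφ₂, a, b, k, hk, hp, ha, hb⟩ : ∃ (φ₂ : MulAut Th) (c₂ : Th),
      (∀ x, φ₂ x = c₂ * φ x * c₂⁻¹) ∧ ∃ a b k : ℕ, k < 3 ∧ threePairs.getD k (0, 0) = (a, b) ∧
      (∃ x, ClassA x ∧ φ₂ (toTh (aEl a)) = toTh x) ∧ (∃ x, ClassA x ∧ φ₂ (toTh (aEl b)) = toTh x) := by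
    let φn : MulAut Th := MulAut.conj nEl * φ₁
    have hn : ∀ x, φn x = (nEl * c) * φ x * (nEl * c)⁻¹ := fun x => by
      change nEl * φ₁ x * nEl⁻¹ = _
      rw [hφ₁]; group
    have conv : ∀ {m i j : ℕ}, φ₁ (toTh (aEl m)) = toTh (sE ^ i * hE ^ j) →
        φn (toTh (aEl m)) = toTh (sE ^ j * hE ^ six i) := fun {m i j} h => by
      rw [← nEl_conj, ← h]; rfl
    by_cases f0 : nfix (sE ^ i0 * hE ^ j0) = 21 <;> by_cases f1 : nfix (sE ^ i1 * hE ^ j1) = 21 <;>
      by_cases f2 : nfix (sE ^ i2 * hE ^ j2) = 21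
    · exact ⟨φ₁, c, hφ₁, 0, 1, 0, by omega, rfl, ⟨_, hA f0, e0⟩, ⟨_, hA f1, e1⟩⟩
    · exact ⟨φ₁, c, hφ₁, 0, 1, 0, by omega, rfl, ⟨_, hA f0, e0⟩, ⟨_, hA f1, e1⟩⟩
    · exact ⟨φ₁, c, hφ₁, 0, 2, 1, by omega, rfl, ⟨_, hA f0, e0⟩, ⟨_, hA f2, e2⟩⟩
    · exact ⟨φn, _, hn, 1, 2, 2, by omega, rfl, ⟨_, hB hi1 hj1 n1 f1, conv e1⟩,
        ⟨_, hB hi2 hj2 n2 f2, conv e2⟩⟩
    · exact ⟨φ₁, c, hφ₁, 1, 2, 2, by omega, rfl, ⟨_, hA f1, e1⟩, ⟨_, hA f2, e2⟩⟩
    · exact ⟨φn, _, hn, 0, 2, 1, by omega, rfl, ⟨_, hB hi0 hj0 n0 f0, conv e0⟩,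
        ⟨_, hB hi2 hj2 n2 f2, conv e2⟩⟩
    · exact ⟨φn, _, hn, 0, 1, 0, by omega, rfl, ⟨_, hB hi0 hj0 n0 f0, conv e0⟩,
        ⟨_, hB hi1 hj1 n1 f1, conv e1⟩⟩
    · exact ⟨φn, _, hn, 0, 1, 0, by omega, rfl, ⟨_, hB hi0 hj0 n0 f0, conv e0⟩,
        ⟨_, hB hi1 hj1 n1 f1, conv e1⟩⟩
  have hP := map_P_le hinj hidx φ₂ (map_D_le hinj hidx φ₂ hk hp ha hb)
  let β : P →* P := (MonoidHom.ofInjective hinj).symm.toMonoidHom.comp
    ((φ₂.toMonoidHom.comp toTh).codRestrict toTh.range hP)
  have hβ : ∀ p, toTh (β p) = φ₂ (toTh p) := fun p =>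
    congrArg Subtype.val ((MonoidHom.ofInjective hinj).apply_symm_apply ⟨φ₂ (toTh p), hP p⟩)
  obtain ⟨q, hq⟩ := aut_P β fun u v h => hinj (φ₂.injective (by rw [← hβ, ← hβ, h]))
  refine ⟨(toTh q)⁻¹ * c₂, fun p => ?_⟩
  have h := hβ p
  rw [hq, hφ₂, map_mul, map_mul, map_inv] at h
  calc _ = (toTh q)⁻¹ * (c₂ * φ (toTh p) * c₂⁻¹) * toTh q := by group
    _ = _ := by rw [← h]; group

/-- An automorphism fixing `P` pointwise fixes the exchanging element. -/
theorem fix_nEl (φ : MulAut Th) (hfix : ∀ p : P, φ (toTh p) = toTh p) : φ nEl = nEl := by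
  haveI := finite_P
  let v : Th := nEl⁻¹ * φ nEl
  have hv : ∀ x : P, (∃ y, nEl * toTh x * nEl⁻¹ = toTh y) → v * toTh x = toTh x * v := by
    rintro x ⟨y, hy⟩
    have h := congrArg φ hy
    rw [map_mul, map_mul, map_inv, hfix, hfix, ← hy] at h
    calc v * toTh x = nEl⁻¹ * (φ nEl * toTh x * (φ nEl)⁻¹) * φ nEl := by simp only [v]; group
      _ = _ := by rw [h]; simp only [v]; group
  have hsE : sE = sE ^ 1 * hE ^ 0 := by simp
  obtain ⟨p, hp⟩ : v ∈ toTh.range := by
    refine cent_classA hinj hidx (x := sE) ?_ (hv sE ⟨_, by rw [hsE]; exact nEl_conj 1 0⟩)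
    have := classA_aEl 0 (by omega)
    simpa [aEl, threeA] using this
  have hS : ∀ σ ∈ Count.full toTh (gI 10),
      p * ((val p1)⁻¹ * σ * val p1) = (val p1)⁻¹ * σ * val p1 * p := by
    intro σ hσ
    obtain ⟨w, hw⟩ := hσ
    refine hinj ?_
    rw [map_mul toTh p ((val p1)⁻¹ * σ * val p1), map_mul toTh ((val p1)⁻¹ * σ * val p1) p, hp]
    refine hv _ ⟨(val p2)⁻¹ * w * val p2, ?_⟩
    rw [map_mul, map_mul, map_mul, map_mul, hw]
    simp only [nEl, map_inv, MulEquiv.coe_toMonoidHom, MulAut.conj_apply]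
    group
  have h1 : val p1 * p * (val p1)⁻¹ = 1 := by
    set q := val p1 * p * (val p1)⁻¹ with hqdef
    have hq : ∀ σ ∈ stabAt 10, q * σ = σ * q := by
      intro σ hσ
      have := hS σ ((full_eq hinj hidx (i := 10) (k := 9) rfl) ▸ hσ)
      calc q * σ = val p1 * (p * ((val p1)⁻¹ * σ * val p1)) * (val p1)⁻¹ := by rw [hqdef]; group
        _ = _ := by rw [this, hqdef]; group
    have h := centOK_true
    simp only [centOK, Bool.and_eq_true, List.all_eq_true, Bool.or_eq_true, List.any_eq_true,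
      Bool.not_eq_true'] at h
    obtain ⟨⟨hokx, hcx⟩, hlist⟩ := h
    have hokw : okWord centS.w = true := by decide +kernel
    have hxmem : val xWordS ∈ stabAt 10 := ThDce.Side.genW_spec (S := ThDce.pSide) gensTen_ok xl
    obtain ⟨w, hw, he⟩ := CentCert.sound centS_tabOK centS_chainOK centS_searchOK (q := q) (by
      rw [val_eq_of_wordEq hokw hokx hcx]; exact hq _ hxmem)
    have hok : okWord w = true := (by decide +kernel : ∀ w ∈ centS.list, okWord w = true) w hw
    rcases hlist w hw with h | ⟨g, hg, hg'⟩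
    · rw [he, val_eq_of_wordEq hok rfl h, val_nil]
    · exfalso
      rw [wordEq_of_val (okWord_append hok (gensTen_ok g hg)) (okWord_append (gensTen_ok g hg) hok)
        (by rw [val_append, val_append, ← he]; exact hq _ (Subgroup.subset_closure ⟨g, hg, rfl⟩))] at hg'
      exact Bool.noConfusion hg'
  have hp1 : p = 1 := by
    have : (val p1)⁻¹ * (val p1 * p * (val p1)⁻¹) * val p1 = p := by group
    rw [← this, h1]; group
  rw [hp1, map_one] at hp
  exact inv_mul_eq_one.1 hp.symm |>.symm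

/-- The representative of the tenth node and `P` generate. -/
theorem eq_top (H : Subgroup Th) (hP : toTh.range ≤ H) (hg : gI 10 ∈ H) : H = ⊤ := by
  classical
  haveI := finite_P
  haveI : Finite Th := ThDce.Data.cert.finite
  have h := Count.card_over (setup hinj hidx) H hP
  have hdvd : (∑ i ∈ Finset.univ.filter (fun i => gI i ∈ H), dI i) ∣ 143127000 := by
    have h' := Subgroup.card_subgroup_dvd_card H
    rw [h, card_Th hinj hidx, card_P, show 90745943887872000 = 634023936 * 143127000 by norm_num] at h'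
    exact Nat.dvd_of_mul_dvd_mul_left (by norm_num) h'
  have hall : ∀ i, gI i ∈ H := by
    have h0 : gI 0 ∈ H := gI_zero ▸ one_mem H
    have e : ∑ i ∈ Finset.univ.filter (fun i => gI i ∈ H), dI i =
        ∑ i, bif decide (gI i ∈ H) then dI i else 0 := by
      rw [Finset.sum_filter]
      exact Finset.sum_congr rfl fun i _ => (Bool.cond_decide _ _ _).symm
    rw [e] at hdvd
    intro i
    exact of_decide_eq_true (union_all (fun i => decide (gI i ∈ H)) (decide_eq_true h0)
      (decide_eq_true hg) hdvd i)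
  have hsum : (∑ i ∈ Finset.univ.filter (fun i => gI i ∈ H), dI i) = 143127000 := by
    rw [Finset.filter_true_of_mem fun i _ => hall i]
    decide +kernel
  apply Subgroup.eq_top_of_card_eq
  rw [h, hsum, card_Th hinj hidx, card_P]

/-- The outer automorphism group of the Thompson group is trivial. -/
theorem card_out : Nat.card (Cfsg.Out Th) = 1 := by
  haveI := finite_P
  haveI : Finite Th := ThDce.Data.cert.finite
  have hin : ∀ φ : MulAut Th, φ ∈ Cfsg.Inn Th := by
    intro φ
    obtain ⟨c, hc⟩ := exists_fix_P hinj hidx φ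
    let ψ : MulAut Th := MulAut.conj c * φ
    have hn := fix_nEl hinj hidx ψ hc
    have htop : ψ.toMonoidHom.eqLocus (MonoidHom.id Th) = ⊤ := by
      refine eq_top hinj hidx _ ?_ ?_
      · rintro _ ⟨p, rfl⟩; exact hc p
      · have e : gI 10 = toTh (val p2) * nEl * (toTh (val p1))⁻¹ := by simp only [nEl]; group
        change ψ (gI 10) = gI 10
        rw [e, map_mul, map_mul, map_inv, hn]
        simp only [show ∀ p, ψ (toTh p) = toTh p from hc]
    refine ⟨c⁻¹, MulEquiv.ext fun x => ?_⟩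
    have hx : x ∈ ψ.toMonoidHom.eqLocus (MonoidHom.id Th) := htop ▸ Subgroup.mem_top x
    change c * φ x * c⁻¹ = x at hx
    change c⁻¹ * x * c⁻¹⁻¹ = φ x
    conv_lhs => rw [← hx]
    group
  have : Subsingleton (Cfsg.Out Th) := by
    refine ⟨fun a b => ?_⟩
    obtain ⟨x, rfl⟩ := QuotientGroup.mk_surjective a
    obtain ⟨y, rfl⟩ := QuotientGroup.mk_surjective b
    exact QuotientGroup.eq.2 (hin _)
  exact Nat.card_unique

end Cfsg.Agent.Lib.ThOut
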