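import Cfsg.Agent.Lib.ThOut.Nodes

/-! The tenth node: a group of order 49 whose two classes are exchanged by the representative. -/

set_option autoImplicit false
set_option maxRecDepth 20000

namespace Cfsg.Agent.Lib.ThOut

open Cfsg.Agent.Lib.CosetEnum Cfsg.Agent.Lib.ThP Cfsg.Agent.Lib.ExactCover

/-- The first generator of the group of order 49. -/
noncomputable def sE : P := val [10]

/-- The second generator. -/
noncomputable def hE : P := val hWord

/-- The group of order 49. -/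
noncomputable def subE : Subgroup P := Subgroup.closure {sE, hE}

theorem okWord_replicate {u : List ℕ} (h : okWord u = true) (n : ℕ) :
    okWord (List.replicate n u).flatten = true := by
  induction n with
  | zero => rfl
  | succ n ih => rw [List.replicate_succ, List.flatten_cons]; exact okWord_append h ih

theorem okH : okWord hWord = true ∧ okWord p1 = true ∧ okWord p2 = true ∧
    okWord (invWord p1) = true ∧ okWord (invWord p2) = true := by
  have h := eOK_true
  simp only [eOK, Bool.and_eq_true] at h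
  tauto

theorem okWord_ew (i j : ℕ) : okWord (ew i j) = true :=
  okWord_append (okWord_replicate rfl i) (okWord_replicate okH.1 j)

theorem val_ew (i j : ℕ) : val (ew i j) = sE ^ i * hE ^ j := by
  rw [ew, val_append, val_replicate, val_replicate]; rfl

theorem okWord_ew1 (i j : ℕ) : okWord (ew1 i j) = true :=
  okWord_append (okWord_append okH.2.1 (okWord_ew i j)) okH.2.2.2.1

theorem val_ew1 (i j : ℕ) : val (ew1 i j) = val p1 * (sE ^ i * hE ^ j) * (val p1)⁻¹ := by
  rw [ew1, val_append, val_append, val_ew, ThDce.val_invWord _ okH.2.1]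

theorem E_rel : sE ^ 7 = 1 ∧ hE ^ 7 = 1 ∧ Commute sE hE := by
  have h := eOK_true
  simp only [eOK, Bool.and_eq_true] at h
  obtain ⟨⟨⟨⟨⟨⟨⟨⟨⟨⟨-, h1⟩, h2⟩, h3⟩, -⟩, -⟩, -⟩, -⟩, -⟩, -⟩, -⟩ := h
  have hok := okH.1
  refine ⟨?_, ?_, ?_⟩
  · rw [sE, ← val_replicate, ← val_nil]; exact val_eq_of_wordEq (okWord_replicate rfl 7) rfl h1
  · rw [hE, ← val_replicate, ← val_nil]; exact val_eq_of_wordEq (okWord_replicate hok 7) rfl h2
  · have := val_eq_of_wordEq (okWord_append (rfl : okWord [10] = true) hok)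
      (okWord_append hok (rfl : okWord [10] = true)) h3
    rwa [val_append, val_append] at this

theorem mem_subE {x : P} (hx : x ∈ subE) : ∃ i < 7, ∃ j < 7, x = sE ^ i * hE ^ j :=
  OutGroup.exists_pow_pow (by omega) E_rel.1 E_rel.2.1 E_rel.2.2 hx

theorem pow_mem_subE (i j : ℕ) : sE ^ i * hE ^ j ∈ subE :=
  mul_mem (pow_mem (Subgroup.subset_closure (by simp)) i) (pow_mem (Subgroup.subset_closure (by simp)) j)

/-- Exponent of the image. -/
def six (i : ℕ) : ℕ := Nat.mod (Nat.mul 6 i) 7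

theorem class_facts {i j : ℕ} (hi : i < 7) (hj : j < 7) (hne : ¬(i = 0 ∧ j = 0)) :
    sE ^ i * hE ^ j ≠ 1 ∧
      (nfix (sE ^ i * hE ^ j) = 21 ↔ ¬ nfix (sE ^ j * hE ^ six i) = 21) := by
  have h := classOK_true
  simp only [classOK, allBelow_iff, force_eq] at h
  have h := h i hi j hj
  have hc : (Nat.beq i 0 && Nat.beq j 0) = false := by
    rw [← Bool.not_eq_true]; simpa using hne
  rw [hc, cond_false, Bool.and_eq_true, Bool.not_eq_true'] at h
  rw [← val_ew, ← val_ew, nfix_word _ (okWord_ew i j), nfix_word _ (okWord_ew _ _)]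
  refine ⟨fun e => ?_, ?_⟩
  · rw [wordEq_of_val (okWord_ew i j) rfl (e.trans val_nil.symm)] at h
    exact Bool.noConfusion h.1
  · have h2 := h.2
    rw [beq_iff_eq] at h2
    rw [← Nat.beq_eq, h2, Bool.not_eq_true', ← Nat.beq_eq, Bool.not_eq_true]
    rfl

theorem subE_card : Nat.card subE = 49 := by
  haveI := finite_P
  let f : Fin 7 × Fin 7 → subE := fun z => ⟨_, pow_mem_subE z.1 z.2⟩
  have hsurj : Function.Surjective f := fun x => by
    obtain ⟨i, hi, j, hj, e⟩ := mem_subE x.2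
    exact ⟨(⟨i, hi⟩, ⟨j, hj⟩), Subtype.ext e.symm⟩
  have hinj : Function.Injective f := by
    rintro ⟨i, j⟩ ⟨k, l⟩ e
    have e' : sE ^ i.1 * hE ^ j.1 = sE ^ k.1 * hE ^ l.1 := congrArg Subtype.val e
    have h : sE ^ (i.1 + (7 - k.1)) * hE ^ (j.1 + (7 - l.1)) = 1 := by
      rw [pow_add, pow_add, mul_assoc, ← mul_assoc (sE ^ (7 - k.1)),
        (E_rel.2.2.pow_pow _ _).eq, mul_assoc, ← mul_assoc, e', mul_assoc, ← mul_assoc (hE ^ l.1),
        ← (E_rel.2.2.pow_pow _ _).eq, mul_assoc, ← mul_assoc (sE ^ k.1), ← pow_add, ← pow_add,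
        show k.1 + (7 - k.1) = 7 by omega, show l.1 + (7 - l.1) = 7 by omega, E_rel.1, E_rel.2.1,
        one_mul]
    rw [pow_eq_pow_mod _ E_rel.1, pow_eq_pow_mod _ E_rel.2.1] at h
    by_contra hne
    refine (class_facts (Nat.mod_lt _ (by omega)) (Nat.mod_lt _ (by omega)) ?_).1 h
    intro hz
    apply hne
    have := i.2; have := j.2; have := k.2; have := l.2
    exact Prod.ext (Fin.ext (show i.1 = k.1 by omega)) (Fin.ext (show j.1 = l.1 by omega))
  rw [← Nat.card_congr (Equiv.ofBijective f ⟨hinj, hsurj⟩)]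
  simp

theorem gensTen_ok : ∀ g ∈ gensAt 10, okWord g = true := by
  have h := eOK_true
  simp only [eOK, Bool.and_eq_true, List.all_eq_true] at h
  obtain ⟨⟨⟨⟨⟨⟨⟨⟨⟨⟨⟨⟨⟨⟨⟨-, h1⟩, -⟩, -⟩, -⟩, -⟩, -⟩, -⟩, -⟩, -⟩, -⟩, -⟩, -⟩, -⟩, -⟩, -⟩ := h
  exact h1

/-- Conjugation by the representative of the node. -/
noncomputable def conjTen : P →* Th :=
  (MulAut.conj (gI 10)).toMonoidHom.comp toTh

theorem conjTen_apply (p : P) : conjTen p = gI 10 * toTh p * (gI 10)⁻¹ := rfl

theorem gI_ten : gI 10 = thModel.D.rep (thModel.nodes.getD 10 0) := rfl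

theorem conjTen_gen (j : ℕ) : conjTen (val ((gensAt 10).getD j [])) = toTh (val (imgs.getD j [])) := by
  by_cases hj : j < (gensAt 10).length
  swap
  · rw [List.getD_eq_default _ _ (by omega), List.getD_eq_default _ _ (by simp [imgs]; omega)]
    rw [val_nil, map_one, map_one]
  have h := imgsOK_true
  simp only [imgsOK, force_eq, Bool.and_eq_true, allBelow_iff, Nat.blt_eq, Nat.beq_eq,
    List.all_eq_true] at h
  obtain ⟨hok, h⟩ := h
  obtain ⟨⟨⟨⟨hlt, hneed⟩, ha⟩, hb⟩, hw⟩ := h j hj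
  have hc := mulsOK_true
  simp only [mulsOK, allBelow_iff] at hc
  have hR := checkM_sound (D := thModel.D) ThDce.Data.cert.tab (fun i hi => hc i hi) _ hlt hneed
  simp only [RelM, ha, hb, ← gI_ten] at hR
  have hm : imgs.getD j [] = mulOf (factTen j) := by
    rw [List.getD_eq_getElem _ _ (by simpa [imgs] using hj)]
    simp [imgs]
  have hg : okWord ((gensAt 10).getD j []) = true := by
    rw [List.getD_eq_getElem _ _ hj]; exact gensTen_ok _ (List.getElem_mem hj)
  have hmok : okWord (imgs.getD j []) = true := by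
    rw [List.getD_eq_getElem _ _ (by simpa [imgs] using hj)]; exact hok _ (List.getElem_mem _)
  rw [conjTen_apply, ← ThDce.el_eq_toTh _ hg, ← ThDce.el_eq_toTh _ hmok, hm, ThDce.leq_eq hw,
    ThDce.el_append, ThDce.el_invWord, ← mul_assoc, hR]
  simp only [mul_assoc, mul_inv_cancel_left, mul_inv_cancel, mul_one]

theorem conjTen_genW (l : List (ℕ × Bool)) :
    conjTen (val (ThDce.genW (gensAt 10) l)) = toTh (val (ThDce.genW imgs l)) := by
  induction l with
  | nil => simp [ThDce.genW, val_nil]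
  | cons e l ih =>
    have hsplit : ∀ gens : List (List ℕ), ThDce.genW gens (e :: l) =
        (bif e.2 then invWord (gens.getD e.1 []) else gens.getD e.1 []) ++ ThDce.genW gens l :=
      fun gens => by simp [ThDce.genW]
    rw [hsplit, hsplit, val_append, val_append, map_mul, map_mul, ih]
    congr 1
    have hok : ∀ gens : List (List ℕ), (∀ g ∈ gens, okWord g = true) →
        okWord (gens.getD e.1 []) = true := by
      intro gens hgens
      by_cases hlt : e.1 < gens.length
      · rw [List.getD_eq_getElem _ _ hlt]; exact hgens _ (List.getElem_mem hlt)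
      · rw [List.getD_eq_default _ _ (by omega)]; rfl
    have hio : ∀ g ∈ imgs, okWord g = true := by
      have h := imgsOK_true
      simp only [imgsOK, Bool.and_eq_true, List.all_eq_true] at h
      exact h.1
    cases e.2 with
    | false => exact conjTen_gen _
    | true =>
      simp only [cond_true]
      rw [ThDce.val_invWord _ (hok _ gensTen_ok), ThDce.val_invWord _ (hok _ hio), map_inv, map_inv,
        conjTen_gen]

theorem conjTen_E (i j : ℕ) :
    conjTen (val p1 * (sE ^ i * hE ^ j) * (val p1)⁻¹) =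
      toTh (val p2 * (sE ^ j * hE ^ six i) * (val p2)⁻¹) := by
  have h := eOK_true
  simp only [eOK, Bool.and_eq_true] at h
  obtain ⟨⟨⟨⟨⟨⟨⟨⟨⟨⟨⟨⟨⟨⟨-, oka⟩, okb⟩, oka'⟩, okb'⟩, -⟩, -⟩, -⟩, ha⟩, hb⟩, ha'⟩, hb'⟩, -⟩, -⟩, -⟩ := h
  have okp2 : ∀ i j, okWord (p2 ++ ew i j ++ invWord p2) = true := fun i j =>
    okWord_append (okWord_append okH.2.2.1 (okWord_ew i j)) okH.2.2.2.2
  have e1 := val_eq_of_wordEq (okWord_ew1 1 0) oka ha
  have e2 := val_eq_of_wordEq (okWord_ew1 0 1) okb hb
  have e3 := val_eq_of_wordEq oka' (okp2 0 6) ha'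
  have e4 := val_eq_of_wordEq okb' (okp2 1 0) hb'
  have c1 : conjTen (val p1 * sE * (val p1)⁻¹) = toTh (val p2 * hE ^ 6 * (val p2)⁻¹) := by
    rw [show val p1 * sE * (val p1)⁻¹ = val (ew1 1 0) by rw [val_ew1]; simp, e1, conjTen_genW, e3,
      val_append, val_append, val_ew, ThDce.val_invWord _ okH.2.2.1]
    simp
  have c2 : conjTen (val p1 * hE * (val p1)⁻¹) = toTh (val p2 * sE * (val p2)⁻¹) := by
    rw [show val p1 * hE * (val p1)⁻¹ = val (ew1 0 1) by rw [val_ew1]; simp, e2, conjTen_genW, e4,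
      val_append, val_append, val_ew, ThDce.val_invWord _ okH.2.2.1]
    simp
  rw [show val p1 * (sE ^ i * hE ^ j) * (val p1)⁻¹ =
      (val p1 * sE * (val p1)⁻¹) ^ i * (val p1 * hE * (val p1)⁻¹) ^ j by
    rw [conj_pow, conj_pow]; group, map_mul, map_pow, map_pow, c1, c2, ← map_pow, ← map_pow, ← map_mul,
    conj_pow, conj_pow, ← pow_mul]
  congr 1
  rw [show six i = 6 * i % 7 from rfl, ← pow_eq_pow_mod _ E_rel.2.1, ← (E_rel.2.2.symm.pow_pow _ _).eq]
  group

end Cfsg.Agent.Lib.ThOut
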